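import Cfsg.Agent.WeilFour.Spec
import Cfsg.Agent.S2347

/-!
The two Weil representations of a given additive character, on even and on odd functions.
-/

set_option autoImplicit false
set_option linter.unusedSectionVars false

namespace Cfsg.Agent.WeilFour

open Matrix Module Cfsg.Agent.Classical

variable {F : Type*} [Field F] [Fintype F] [DecidableEq F] {n : ℕ}
variable {ψ' : AddChar F ℂ} (hψ' : ψ' ≠ 1) (h2 : (2 : F) ≠ 0)

local notation "Pt" => (Fin n → F)
local notation "Op" => Matrix (Fin n → F) (Fin n → F) ℂ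

/-- The rescaled operator on one parity. -/
noncomputable def wOp (s : ℂ) (g : SpG n F) : Module.End ℂ (Weil.sect F n s) :=
  Weil.ratio (Weil.weilT hψ' h2 g) • Weil.res s (Weil.weilT hψ' h2 g)

theorem wOp_mul (s : ℂ) (g g' : SpG n F) :
    wOp hψ' h2 s (g * g') = wOp hψ' h2 s g * wOp hψ' h2 s g' := by
  obtain ⟨c, hc⟩ := Weil.int_unique ψ' h2 hψ' (Weil.weilT_spec hψ' h2 (g * g')).1
    (Weil.weilT_spec hψ' h2 (g * g')).2
    (Weil.isInt_mul ψ' (Weil.weilT_spec hψ' h2 g).1 (Weil.weilT_spec hψ' h2 g').1)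
  have hc0 : c ≠ 0 := fun h => by
    have := (Weil.weilT_spec hψ' h2 g).2.mul (Weil.weilT_spec hψ' h2 g').2
    rw [hc, h, zero_smul] at this
    exact not_isUnit_zero this
  have e : (⟨(Weil.weilT hψ' h2 g).1 * (Weil.weilT hψ' h2 g').1,
      Weil.par_mul (Weil.weilT hψ' h2 g).2 (Weil.weilT hψ' h2 g').2⟩ : {T : Op // Weil.Par T}) =
      ⟨c • (Weil.weilT hψ' h2 (g * g')).1, Weil.par_smul (Weil.weilT hψ' h2 (g * g')).2 c⟩ := Subtype.ext hc
  have e1 := Weil.ratio_mul (Weil.weilT hψ' h2 g) (Weil.weilT hψ' h2 g')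
  have e2 := Weil.res_mul s (Weil.weilT hψ' h2 g) (Weil.weilT hψ' h2 g')
  rw [e] at e1 e2
  have e3 := Weil.ratio_smul h2 c hc0 (Weil.weilT hψ' h2 (g * g'))
  rw [e1] at e3
  rw [Weil.res_smul] at e2
  simp only [wOp]
  rw [smul_mul_assoc, mul_smul_comm, smul_smul, ← e2, smul_smul, e3]

theorem wOp_isUnit (s : ℂ) (g : SpG n F) : IsUnit (wOp hψ' h2 s g) := by
  have h := Weil.res_isUnit s (Weil.weilT hψ' h2 g) (Weil.weilT_spec hψ' h2 g).2
  rw [wOp, Algebra.smul_def]
  exact IsUnit.mul ((Ne.isUnit (Weil.ratio_ne_zero _ (Weil.weilT_spec hψ' h2 g).2)).map _) h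

/-- The Weil representation on one parity. -/
noncomputable def wRep (s : ℂ) : Representation ℂ (SpG n F) (Weil.sect F n s) where
  toFun := wOp hψ' h2 s
  map_one' := by
    have h := wOp_mul hψ' h2 s 1 (1 : SpG n F)
    rw [one_mul] at h
    exact (wOp_isUnit hψ' h2 s 1).mul_left_cancel (h.symm.trans (mul_one _).symm)
  map_mul' := wOp_mul hψ' h2 s

theorem wRep_int (g : SpG n F) {T : Op} (hT : Weil.IsInt ψ' g T) (hT0 : T ≠ 0) :
    ∃ k : ℂ, k ≠ 0 ∧ ∀ (s : ℂ) (f : Weil.sect F n s), (wRep hψ' h2 s g f : Pt → ℂ) = k • (T *ᵥ (f : Pt → ℂ)) := by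
  obtain ⟨c, rfl⟩ := Weil.int_unique ψ' h2 hψ' (Weil.weilT_spec hψ' h2 g).1 (Weil.weilT_spec hψ' h2 g).2 hT
  have hc : c ≠ 0 := fun h => hT0 (by rw [h, zero_smul])
  refine ⟨Weil.ratio (Weil.weilT hψ' h2 g) * c⁻¹,
    mul_ne_zero (Weil.ratio_ne_zero _ (Weil.weilT_spec hψ' h2 g).2) (inv_ne_zero hc), fun s f => ?_⟩
  show ((Weil.ratio (Weil.weilT hψ' h2 g) • Weil.res s (Weil.weilT hψ' h2 g)) f : Pt → ℂ) = _
  rw [LinearMap.smul_apply, Submodule.coe_smul, Weil.res_apply, Matrix.smul_mulVec, smul_smul, mul_assoc,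
    inv_mul_cancel₀ hc, mul_one]

/-- The function supported at the origin. -/
noncomputable def del (F : Type*) [Field F] [DecidableEq F] (n : ℕ) : Weil.sect F n 1 :=
  ⟨fun x => if x = 0 then 1 else 0, fun x => by simp [neg_eq_zero]⟩

theorem del_apply (x : Pt) : (del F n : Pt → ℂ) x = if x = 0 then 1 else 0 := rfl

theorem del_ne : (del F n) ≠ 0 := fun h => by
  simpa [del_apply] using congrFun (congrArg Subtype.val h) 0

theorem diag_ne_zero (v : Pt → ℂ) (h : v 0 ≠ 0) : Matrix.diagonal v ≠ 0 := fun e => h (by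
  simpa using congrFun (congrFun e 0) 0)

theorem wRep_lv (A : GL (Fin n) F) : ∃ k : ℂ, k ≠ 0 ∧ ∀ (s : ℂ) (f : Weil.sect F n s) (y : Pt),
    (wRep hψ' h2 s (lv A) f : Pt → ℂ) y = k * (f : Pt → ℂ) ((A⁻¹).1 *ᵥ y) := by
  obtain ⟨k, hk, h⟩ := wRep_int hψ' h2 (lv A) (Weil.isInt_levi (ψ := ψ') A.1 (A⁻¹).1 A.mul_inv) (fun e => by
    simpa using congrFun (congrFun e 0) 0)
  refine ⟨k, hk, fun s f y => ?_⟩
  rw [h s f]
  simp [Matrix.mulVec, dotProduct]

theorem wRep_uS [Nontrivial (Fin n)] (X : SymM n F) (s : ℂ) (f : Weil.sect F n s) (y : Pt) :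
    (wRep hψ' h2 s (uS X) f : Pt → ℂ) y = ψ' (-((y ⬝ᵥ X.1 *ᵥ y) * (2 : F)⁻¹)) * (f : Pt → ℂ) y := by
  have hex : ∀ X : SymM n F, ∃ k : ℂ, ∀ (s : ℂ) (f : Weil.sect F n s) (y : Pt),
      (wRep hψ' h2 s (uS X) f : Pt → ℂ) y = k * ψ' (-((y ⬝ᵥ X.1 *ᵥ y) * (2 : F)⁻¹)) * (f : Pt → ℂ) y := by
    intro X
    obtain ⟨k, -, h⟩ := wRep_int hψ' h2 (uS X) (Weil.isInt_lowU (ψ := ψ') h2 X.1 X.2)
      (diag_ne_zero _ (ψ'.val_isUnit _).ne_zero)
    refine ⟨k, fun s f y => ?_⟩
    rw [h s f, Pi.smul_apply, Matrix.mulVec_diagonal, smul_eq_mul, mul_assoc]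
  choose κ hκ using hex
  have hdel : ∀ X, wRep hψ' h2 1 (uS X) (del F n) = κ X • del F n := fun X => Subtype.ext (funext fun y => by
    rw [hκ X, Submodule.coe_smul, Pi.smul_apply, smul_eq_mul, del_apply]
    split_ifs with h
    · subst h; simp
    · simp)
  have hadd : ∀ X Y, κ (X + Y) = κ X * κ Y := fun X Y => smul_left_injective ℂ (del_ne (F := F) (n := n)) (by
    show κ (X + Y) • del F n = (κ X * κ Y) • del F n
    rw [← hdel, uS_add, map_mul, Module.End.mul_apply, hdel, map_smul, hdel, smul_smul, mul_comm])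
  have hinv : ∀ (A : GL (Fin n) F) X, κ (congT A X) = κ X := by
    intro A X
    obtain ⟨k, hk, hl⟩ := wRep_lv hψ' h2 A
    have e : wRep hψ' h2 1 (lv A) (del F n) = k • del F n := Subtype.ext (funext fun y => by
      rw [hl, Submodule.coe_smul, Pi.smul_apply, smul_eq_mul, del_apply, del_apply]
      by_cases hy : y = 0
      · simp [hy]
      · rw [if_neg hy, if_neg]
        intro h
        apply hy
        rw [← Matrix.one_mulVec y, ← A.mul_inv, ← Matrix.mulVec_mulVec, h, Matrix.mulVec_zero])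
    have := congrArg (fun g => wRep hψ' h2 1 g (del F n)) (uS_mul_lv X A)
    simp only [map_mul, Module.End.mul_apply, e, hdel, map_smul, smul_smul] at this
    exact mul_left_cancel₀ hk ((mul_comm k _).trans
      ((smul_left_injective ℂ (del_ne (F := F) (n := n)) this).symm.trans (by ring)))
  have hzero : κ (0 : SymM n F) = 1 := smul_left_injective ℂ (del_ne (F := F) (n := n)) (by
    show κ 0 • del F n = (1 : ℂ) • del F n
    rw [← hdel, uS_zero, map_one, one_smul, Module.End.one_apply])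
  have hne : ∀ X, κ X ≠ 0 := fun X h => by
    have := hadd X (-X)
    rw [add_neg_cancel, hzero, h, zero_mul] at this
    exact one_ne_zero this
  have hone : ∀ (i j : Fin n) (t : F), κ (symN i j t) = 1 := by
    have hoff : ∀ (a b : Fin n), a ≠ b → ∀ t : F, κ (symN a b (2 * t)) = 1 ∧ κ (symN b b t) = 1 := by
      intro a b hab
      have key : ∀ s t : F, κ (symN a b (2 * t * s)) * κ (symN b b (t * (s * s))) = 1 := by
        intro s t
        have e : congT (hG a b hab s) (symN a a t) = symN a a t + (symN a b (2 * t * s) +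
            symN b b (t * (s * s))) := by
          apply Subtype.ext
          simp only [congT, symN, coe_hG, Matrix.transvection, AddSubgroup.coe_add, Matrix.transpose_add,
            Matrix.transpose_one, Matrix.transpose_single, Matrix.mul_add, Matrix.add_mul, Matrix.one_mul,
            Matrix.mul_one, Matrix.single_mul_single_same, ← Matrix.single_add]
          rw [show s * (t + t) * s = t * (s * s) + t * (s * s) by ring, show s * (t + t) = 2 * t * s by ring,
            show (t + t) * s = 2 * t * s by ring]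
          abel
        have h := hinv (hG a b hab s) (symN a a t)
        rw [e, hadd, hadd] at h
        exact mul_left_cancel₀ (hne _) (h.trans (mul_one _).symm)
      have hb : ∀ t : F, κ (symN b b t) = 1 := by
        intro t
        have h1 := key 1 (t / 2)
        have h3 := key (-1) (-(t / 2))
        simp only [mul_one, mul_neg, neg_neg] at h1 h3
        have hneg : κ (symN b b (-(t / 2))) = κ (symN b b (t / 2)) :=
          mul_left_cancel₀ (hne (symN a b (2 * (t / 2)))) (h3.trans h1.symm)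
        have e : symN b b t = symN b b (t / 2) + symN (F := F) b b (t / 2) := Subtype.ext (by
          simp only [symN, AddSubgroup.coe_add, ← Matrix.single_add]
          congr 1
          field_simp
          ring)
        have e' : symN b b (t / 2) + symN b b (-(t / 2)) = (0 : SymM n F) := Subtype.ext (by
          simp [symN, ← Matrix.single_add, ← add_assoc])
        rw [e, hadd]
        nth_rewrite 2 [← hneg]
        rw [← hadd, e', hzero]
      intro t
      have h1 := key 1 t
      simp only [mul_one, hb] at h1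
      exact ⟨h1, hb t⟩
    intro i j t
    rcases eq_or_ne i j with rfl | hij
    · obtain ⟨a, ha⟩ := exists_ne i
      exact (hoff a i ha t).2
    · have := (hoff i j hij (t / 2)).1
      rwa [mul_div_cancel₀ t h2] at this
  let κc : AddChar (SymM n F) ℂ := ⟨κ, hzero, hadd⟩
  have hsum : X = ∑ i, ∑ j, symN i j (X.1 i j / 2) := Subtype.ext (by
    rw [AddSubgroup.val_finsetSum]
    simp only [AddSubgroup.val_finsetSum]
    ext k l
    simp only [symN, Matrix.sum_apply, Matrix.add_apply, Matrix.single_apply, Finset.sum_add_distrib, ite_and,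
      Finset.sum_ite_eq', Finset.mem_univ, if_true, Finset.sum_ite_irrel, Finset.sum_const_zero]
    rw [sym_apply X l k]
    field_simp
    ring)
  have h1 : κc X = 1 := by
    rw [hsum]
    show κ _ = 1
    have hmul : ∀ x y : SymM n F, κ x = 1 → κ y = 1 → κ (x + y) = 1 := fun x y hx hy => by
      rw [hadd, hx, hy, one_mul]
    exact Finset.sum_induction _ _ hmul hzero fun i _ =>
      Finset.sum_induction _ _ hmul hzero fun j _ => hone i j _
  rw [hκ X, show κ X = 1 from h1, one_mul]

/-- The parity element. -/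
theorem wRep_neg : ∃ k : ℂ, k * k = 1 ∧ ∀ (s : ℂ) (f : Weil.sect F n s),
    wRep hψ' h2 s (lv (-1)) f = (s * k) • f := by
  obtain ⟨k, hk, h⟩ := wRep_lv hψ' h2 (-1 : GL (Fin n) F)
  have e : ((-1 : GL (Fin n) F)⁻¹).1 = -1 := by simp
  have hf : ∀ (s : ℂ) (f : Weil.sect F n s), wRep hψ' h2 s (lv (-1)) f = (s * k) • f := fun s f =>
    Subtype.ext (funext fun y => by
      rw [h, e, Matrix.neg_mulVec, Matrix.one_mulVec, f.2 y, Submodule.coe_smul, Pi.smul_apply, smul_eq_mul]
      ring)
  refine ⟨k, ?_, hf⟩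
  have h1 : wRep hψ' h2 1 (lv (-1 : GL (Fin n) F)) (wRep hψ' h2 1 (lv (-1)) (del F n)) = del F n := by
    rw [← Module.End.mul_apply, ← map_mul, ← map_mul, neg_one_mul, neg_neg, map_one, map_one, Module.End.one_apply]
  rw [hf 1 (del F n), map_smul, hf 1 (del F n), smul_smul, one_mul] at h1
  exact smul_left_injective ℂ (del_ne (F := F) (n := n)) (h1.trans (one_smul ℂ _).symm)

/-- The class of the Weil representation of the character `x ↦ ψ (a x)`. -/
def kap (a : F) : F := -(a * (2 : F)⁻¹)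

variable {ψ : AddChar F ℂ} (hψ : ψ ≠ 1) {a : F} (ha : ψ' = ψ.mulShift a)
include hψ ha

theorem spec_eq [Nontrivial (Fin n)] {s : ℂ} {S : SymM n F} {f : Weil.sect F n s} (hf : f ∈ E (wRep hψ' h2 s) ψ S) {y : Pt}
    (hy : (f : Pt → ℂ) y ≠ 0) : S = sv (kap a) y := by
  apply (chr_bijective h2 hψ).1
  refine DFunLike.ext _ _ fun X => ?_
  have h := congrFun (congrArg Subtype.val (mem_E.1 hf X)) y
  rw [wRep_uS, Submodule.coe_smul, Pi.smul_apply, smul_eq_mul] at h
  rw [chr_apply, chr_apply, ← mul_right_cancel₀ hy h, ha, AddChar.mulShift_apply]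
  congr 1
  simp only [sv, kap, Matrix.smul_mul, Matrix.trace_smul, Matrix.vecMulVec_mul, Matrix.trace_vecMulVec,
    smul_eq_mul]
  rw [dotProduct_comm y (y ᵥ* X.1), ← Matrix.dotProduct_mulVec]
  ring

theorem spec_mem [Nontrivial (Fin n)] (s : ℂ) (hs : s * s = 1) (y : Pt) (hy : y ≠ 0) :
    E (wRep (n := n) hψ' h2 s) ψ (sv (kap a) y) ≠ ⊥ := by
  have hny : -y ≠ y := fun h => by
    obtain ⟨i, hi⟩ := Function.ne_iff.1 hy
    have := congrFun h i
    apply hi
    have e : (2 : F) * y i = 0 := by simp at this; linear_combination -this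
    simpa [h2] using e
  let f : Weil.sect F n s := ⟨fun x => if x = y then 1 else if x = -y then s else 0, fun x => by
    by_cases h1 : x = y
    · subst h1; simp [hny]
    · by_cases h3 : x = -y
      · subst h3
        simp only [neg_neg, if_true, hny, if_false]
        exact hs.symm
      · have h4 : -x ≠ y := fun h => h3 (by rw [← h, neg_neg])
        have h5 : -x ≠ -y := fun h => h1 (neg_injective h)
        simp [h1, h3, h4, h5]⟩
  refine Submodule.ne_bot_iff _ |>.2 ⟨f, mem_E.2 fun X => Subtype.ext (funext fun x => ?_), fun h => ?_⟩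
  · rw [wRep_uS, Submodule.coe_smul, Pi.smul_apply, smul_eq_mul]
    show _ * (if x = y then (1 : ℂ) else if x = -y then s else 0) = _ * (if x = y then (1 : ℂ) else if x = -y then s else 0)
    by_cases hxy : x = y ∨ x = -y
    · congr 1
      rw [ha, AddChar.mulShift_apply]
      congr 1
      simp only [sv, kap, Matrix.smul_mul, Matrix.trace_smul, Matrix.vecMulVec_mul, Matrix.trace_vecMulVec,
        smul_eq_mul]
      rw [dotProduct_comm y (y ᵥ* X.1), ← Matrix.dotProduct_mulVec]
      rcases hxy with rfl | rfl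
      · ring
      · simp [Matrix.mulVec_neg]
        ring
    · push Not at hxy
      simp [hxy.1, hxy.2]
  · simpa [f] using congrFun (congrArg Subtype.val h) y

omit hψ ha

theorem del_not_fixed (hn : 0 < n) : wRep hψ' h2 1 ⟨_, SymplecticGroup.J_mem (Fin n) F⟩ (del F n) ≠ del F n := by
  intro hfix
  set J : SpG n F := ⟨_, SymplecticGroup.J_mem (Fin n) F⟩ with hJ
  obtain ⟨k, hk, h⟩ := wRep_int hψ' h2 J (Weil.weilT_spec hψ' h2 J).1
    (fun e => not_isUnit_zero (e ▸ (Weil.weilT_spec hψ' h2 J).2))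
  set T := (Weil.weilT hψ' h2 J).1
  set δ : Pt → ℂ := fun x => if x = 0 then 1 else 0 with hδ
  have h1 : k • (T *ᵥ δ) = δ := ((h 1 (del F n)).symm.trans (congrArg Subtype.val hfix))
  have hT : T *ᵥ δ = k⁻¹ • δ := (eq_inv_smul_iff₀ hk).2 h1
  let i : Fin n := ⟨0, hn⟩
  let v : Fin n ⊕ Fin n → F := Pi.single (Sum.inr i) 1
  have hvl : v ∘ Sum.inl = 0 := by funext x; simp [v]
  have hv : Weil.dmat ψ' v *ᵥ δ = δ := funext fun x => by
    rw [Weil.dmat_mulVec, hvl]
    by_cases hx : x = 0
    · simp [hδ, hx]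
    · simp [hδ, hx]
  have e := congrArg (· *ᵥ δ) ((Weil.weilT_spec hψ' h2 J).1 v)
  simp only [← Matrix.mulVec_mulVec] at e
  rw [hv, hT, Matrix.mulVec_smul] at e
  have e0 := congrFun (smul_right_injective _ (inv_ne_zero hk) e) 0
  have hl : ((J : Matrix (Fin n ⊕ Fin n) (Fin n ⊕ Fin n) F) *ᵥ v) ∘ Sum.inl = Pi.single i (-1) := by
    funext x
    simp [hJ, v, Matrix.J, Matrix.fromBlocks, Matrix.one_apply, Pi.single_apply]
    split_ifs <;> simp
  rw [Weil.dmat_mulVec, hl] at e0
  simp [hδ] at e0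

theorem wRep_irreducible [Nontrivial (Fin n)] (hodd : Odd (Fintype.card F)) {s : ℂ} (hs : s = 1 ∨ s = -1) :
    (wRep (n := n) hψ' h2 s).IsIrreducible := by
  have hn : 2 ≤ n := by
    have := Fintype.one_lt_card (α := Fin n)
    rw [Fintype.card_fin] at this
    omega
  have hq : 3 ≤ Fintype.card F := by
    have := Fintype.one_lt_card (α := F)
    obtain ⟨k, hk⟩ := hodd
    omega
  have hQ : 3 ^ 2 ≤ Fintype.card F ^ n := (Nat.pow_le_pow_left hq 2).trans (Nat.pow_le_pow_right (by omega) hn)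
  obtain ⟨hm, hp⟩ := Weil.finrank_odd (F := F) (n := n) h2
  have hdim : Module.finrank ℂ (Weil.sect F n s) ≤ (Fintype.card F ^ n - 1) / 2 + 1 ∧
      0 < Module.finrank ℂ (Weil.sect F n s) := by
    rcases hs with rfl | rfl <;> omega
  have hnt : Nontrivial (Weil.sect F n s) := Module.nontrivial_of_finrank_pos hdim.2
  have hbig : ∀ U : Submodule ℂ (Weil.sect F n s), (∀ g, ∀ v ∈ U, wRep hψ' h2 s g v ∈ U) → U ≠ ⊥ →
      (Fintype.card F ^ n - 1) / 2 ≤ Module.finrank ℂ U := by
    intro U hU hU0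
    let σ : Subrepresentation (wRep hψ' h2 s) := ⟨U, fun g v hv => hU g v hv⟩
    rcases S2347.bound_or_fixed (V := U) hn hodd σ.toRepresentation (Submodule.nontrivial_iff_ne_bot.2 hU0)
      with h | ⟨x, hx, hfix⟩
    · exact h
    exfalso
    have hf : ∀ g, wRep hψ' h2 s g x.1 = x.1 := fun g => congrArg Subtype.val (hfix g)
    set f : Pt → ℂ := (x.1 : Pt → ℂ) with hfd
    obtain ⟨c0, hc0⟩ := AddChar.ne_one_iff.1 hψ'
    have hsupp : ∀ y, y ≠ 0 → f y = 0 := by
      intro y hy
      by_contra hne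
      obtain ⟨i, hi⟩ := Function.ne_iff.1 hy
      have hyi : y i ≠ 0 := hi
      have := congrFun (congrArg Subtype.val (hf (uS (symD i (-(2 * c0 / (y i * y i))))))) y
      rw [wRep_uS] at this
      have h1 := mul_right_cancel₀ hne (this.trans (one_mul _).symm)
      apply hc0
      convert h1 using 2
      simp [symD, Matrix.mulVec_diagonal, dotProduct, Pi.single_apply]
      field_simp
    rcases hs with rfl | rfl
    · have he : x.1 = f 0 • del F n := Subtype.ext (funext fun y => by
        rw [Submodule.coe_smul, Pi.smul_apply, smul_eq_mul, del_apply]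
        by_cases hy : y = 0
        · subst hy; simp [hfd]
        · simp [hy, hfd ▸ hsupp y hy])
      have hf0 : f 0 ≠ 0 := fun h => hx (Subtype.ext (by rw [he, h, zero_smul]; rfl))
      have := hf ⟨_, SymplecticGroup.J_mem (Fin n) F⟩
      rw [he, map_smul] at this
      exact del_not_fixed hψ' h2 (by omega) (smul_right_injective _ hf0 this)
    · have h0 : f 0 = 0 := by
        have := x.1.2 0
        simp only [neg_zero] at this
        rw [← hfd] at this
        linear_combination (1 / 2 : ℂ) * this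
      exact hx (Subtype.ext (Subtype.ext (funext fun y => by
        by_cases hy : y = 0
        · subst hy; exact h0
        · exact hsupp y hy)))
  refine Char.isIrreducible_iff.2 ⟨hnt, fun U hU => ?_⟩
  by_contra hc
  push Not at hc
  let σ : Subrepresentation (wRep hψ' h2 s) := ⟨U, fun g v hv => hU g v hv⟩
  have : NeZero (Nat.card (SpG n F) : ℂ) := ⟨Nat.cast_ne_zero.2 Nat.card_pos.ne'⟩
  obtain ⟨τ, hτ⟩ := exists_isCompl σ
  have hcc : IsCompl U τ.toSubmodule := by
    constructor
    · rw [disjoint_iff]; exact congrArg Subrepresentation.toSubmodule (disjoint_iff.1 hτ.1)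
    · rw [codisjoint_iff]; exact congrArg Subrepresentation.toSubmodule (codisjoint_iff.1 hτ.2)
  have h1 := hbig U hU hc.1
  have h3 := hbig τ.toSubmodule (fun g v hv => τ.apply_mem_toSubmodule g hv) fun h => hc.2 (by
    have := hcc.sup_eq_top
    rwa [h, sup_bot_eq] at this)
  have h4 := Submodule.finrank_add_eq_of_isCompl hcc
  omega

end Cfsg.Agent.WeilFour
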