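import Cfsg.Agent.WeilFour.Spec
import Cfsg.Agent.Weil.Orbit

/-!
Congruence orbits of symmetric matrices of rank at least two over a finite field of odd order.
-/

set_option autoImplicit false
set_option linter.unusedSectionVars false

namespace Cfsg.Agent.WeilFour

open Matrix Module

variable {F : Type*} [Field F] {n : ℕ}

/-- Two split surjections with the same target differ by an automorphism. -/
theorem exists_equiv {C : Type*} [AddCommGroup C] [Module F C] [FiniteDimensional F C]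
    (π π' : (Fin n → F) →ₗ[F] C) (ι ι' : C →ₗ[F] (Fin n → F)) (h : ∀ c, π (ι c) = c) (h' : ∀ c, π' (ι' c) = c) :
    ∃ L : (Fin n → F) ≃ₗ[F] (Fin n → F), (∀ x, π' (L x) = π x) ∧ ∀ c, L (ι c) = ι' c := by
  have hk : ∀ (p : (Fin n → F) →ₗ[F] C) (i : C →ₗ[F] (Fin n → F)), (∀ c, p (i c) = c) →
      finrank F (LinearMap.ker p) + finrank F C = n := by
    intro p i hpi
    have := p.finrank_range_add_finrank_ker
    rw [LinearMap.range_eq_top.2 fun c => ⟨i c, hpi c⟩, finrank_top, Module.finrank_fintype_fun_eq_card,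
      Fintype.card_fin] at this
    omega
  have hdim : finrank F (LinearMap.ker π) = finrank F (LinearMap.ker π') := by
    have := hk π ι h
    have := hk π' ι' h'
    omega
  let e := LinearEquiv.ofFinrankEq _ _ hdim
  let pr : (Fin n → F) →ₗ[F] LinearMap.ker π :=
    LinearMap.codRestrict (LinearMap.ker π) (LinearMap.id - ι ∘ₗ π) fun x => by simp [LinearMap.mem_ker, h]
  let L : (Fin n → F) →ₗ[F] (Fin n → F) := ι' ∘ₗ π + (LinearMap.ker π').subtype ∘ₗ e.toLinearMap ∘ₗ pr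
  have hπ : ∀ x, π' (L x) = π x := fun x => by
    have h0 : π' ((e (pr x) : Fin n → F)) = 0 := (e (pr x)).2
    simp [L, h', h0]
  have hinj : Function.Injective L := by
    rw [injective_iff_map_eq_zero]
    intro x hx
    have h0 : π x = 0 := by rw [← hπ, hx, map_zero]
    have h1 : e (pr x) = 0 := Subtype.ext (by simpa [L, h0] using hx)
    rw [e.map_eq_zero_iff] at h1
    simpa [pr, h0] using congrArg Subtype.val h1
  refine ⟨LinearEquiv.ofInjectiveEndo L hinj, hπ, fun c => ?_⟩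
  have h0 : pr (ι c) = 0 := Subtype.ext (by simp [pr, h])
  simp [L, h, h0]

variable [Fintype F] [DecidableEq F]

theorem exists_GL (L : (Fin n → F) ≃ₗ[F] (Fin n → F)) : ∃ A : GL (Fin n) F, ∀ x, A.1 *ᵥ x = L x := by
  refine ⟨⟨LinearMap.toMatrix' L.toLinearMap, LinearMap.toMatrix' L.symm.toLinearMap, ?_, ?_⟩, fun x => ?_⟩
  · rw [← LinearMap.toMatrix'_comp]; simp
  · rw [← LinearMap.toMatrix'_comp]; simp
  · exact LinearMap.toMatrix'_mulVec _ _

/-- A functional is the dot product with a vector. -/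
theorem dot_of_fst (π : (Fin n → F) →ₗ[F] F) (x : Fin n → F) :
    (x ⬝ᵥ fun k => π (Pi.single k 1)) = π x := by
  conv_rhs => rw [pi_eq_sum_univ' x, map_sum]
  simp [dotProduct]

theorem exists_square_sum {c d : F} (hq : Fintype.card F % 2 = 1) (hc : c ≠ 0) (hd : d ≠ 0) (t : F) :
    ∃ a b : F, c * (a * a) + d * (b * b) = t := by
  obtain ⟨a, b, h⟩ := FiniteField.exists_root_sum_quadratic
    (f := Polynomial.C c * Polynomial.X ^ 2) (g := Polynomial.C d * Polynomial.X ^ 2 - Polynomial.C t)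
    (Polynomial.degree_C_mul_X_pow 2 hc)
    (by rw [Polynomial.degree_sub_C] <;> simp [Polynomial.degree_C_mul_X_pow 2 hd]) hq
  refine ⟨a, b, ?_⟩
  simp only [Polynomial.eval_mul, Polynomial.eval_C, Polynomial.eval_pow, Polynomial.eval_X,
    Polynomial.eval_sub] at h
  linear_combination h

theorem card_conic (h2 : (2 : F) ≠ 0) {c d : F} (hc : c ≠ 0) (hd : d ≠ 0) :
    (Finset.univ.filter fun p : F × F => c * (p.1 * p.1) + d * (p.2 * p.2) = c).card ≤ Fintype.card F + 1 := by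
  rw [← Fintype.card_option]
  refine Finset.card_le_card_of_injOn (fun p => if p = (1, 0) then none else some (p.2 / (p.1 - 1)))
    (fun p _ => Finset.mem_univ _) ?_
  have key : ∀ p : F × F, c * (p.1 * p.1) + d * (p.2 * p.2) = c → p ≠ (1, 0) → ∀ t, t = p.2 / (p.1 - 1) →
      p.1 * (c + d * t ^ 2) = d * t ^ 2 - c ∧ p.2 = t * (p.1 - 1) := by
    intro p hp hne t ht
    have h3 : p.1 - 1 ≠ 0 := fun h1 => by
      rw [sub_eq_zero] at h1
      rw [h1, one_mul, mul_one, add_eq_left, mul_eq_zero] at hp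
      exact hne (Prod.ext h1 (mul_self_eq_zero.1 (hp.resolve_left hd)))
    have e : p.2 = t * (p.1 - 1) := by rw [ht, div_mul_cancel₀ _ h3]
    refine ⟨?_, e⟩
    apply mul_left_cancel₀ h3
    rw [e] at hp
    linear_combination hp
  intro p hp p' hp' hpp
  simp only [Finset.coe_filter, Set.mem_setOf_eq, Finset.mem_univ, true_and] at hp hp'
  simp only at hpp
  by_cases h : p = (1, 0) <;> by_cases h' : p' = (1, 0)
  · rw [h, h']
  · simp [h, h'] at hpp
  · simp [h, h'] at hpp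
  · simp only [h, h', if_false, Option.some.injEq] at hpp
    obtain ⟨e1, e2⟩ := key p hp h _ rfl
    obtain ⟨e1', e2'⟩ := key p' hp' h' _ hpp
    have hne : c + d * (p.2 / (p.1 - 1)) ^ 2 ≠ 0 := fun h0 => by
      rw [h0, mul_zero] at e1
      exact hc ((mul_eq_zero.1 (show (2 : F) * c = 0 by linear_combination h0 + e1)).resolve_left h2)
    have hx : p.1 = p'.1 := mul_right_cancel₀ hne (e1.trans e1'.symm)
    exact Prod.ext hx (by rw [e2, e2', hx])

/-- The number of orthogonal substitutions in two variables. -/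
theorem card_orth (h2 : (2 : F) ≠ 0) {c d : F} (hc : c ≠ 0) (hd : d ≠ 0) :
    (Finset.univ.filter fun R : (F × F) × (F × F) => c * (R.1.1 * R.1.1) + d * (R.1.2 * R.1.2) = c ∧
      c * (R.1.1 * R.2.1) + d * (R.1.2 * R.2.2) = 0 ∧
      c * (R.2.1 * R.2.1) + d * (R.2.2 * R.2.2) = d).card ≤ 2 * (Fintype.card F + 1) := by
  refine (Finset.card_le_mul_card_image _ 2 (f := Prod.fst) fun r hr => ?_).trans
    (Nat.mul_le_mul_left 2 ((Finset.card_le_card ?_).trans (card_conic h2 hc hd)))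
  swap
  · intro r hr
    simp only [Finset.mem_image, Finset.mem_filter, Finset.mem_univ, true_and] at hr ⊢
    obtain ⟨R, hR, rfl⟩ := hr
    exact hR.1
  simp only [Finset.mem_image, Finset.mem_filter, Finset.mem_univ, true_and] at hr
  obtain ⟨R, hR, rfl⟩ := hr
  set x := R.1.1 with hx
  set z := R.1.2 with hz
  have hxz : c * x ≠ 0 ∨ d * z ≠ 0 := by
    by_contra h
    push Not at h
    exact hc (by rw [← hR.1]; linear_combination x * h.1 + z * h.2)
  have hlam : ∀ R' : (F × F) × (F × F), c * (x * R'.2.1) + d * (z * R'.2.2) = 0 →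
      ∃ l : F, R'.2 = (-(l * (d * z)), l * (c * x)) := by
    intro R' h
    rcases hxz with h1 | h1
    · refine ⟨R'.2.2 / (c * x), Prod.ext ?_ (div_mul_cancel₀ _ h1).symm⟩
      rw [div_mul_eq_mul_div, ← neg_div, eq_div_iff h1]
      linear_combination h
    · refine ⟨-R'.2.1 / (d * z), Prod.ext ?_ ?_⟩
      · rw [div_mul_cancel₀ _ h1, neg_neg]
      · show R'.2.2 = -R'.2.1 / (d * z) * (c * x)
        rw [div_mul_eq_mul_div, eq_div_iff h1]
        linear_combination h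
  obtain ⟨l0, hl0⟩ := hlam R hR.2.1
  have hsq : ∀ l : F, c * (-(l * (d * z)) * -(l * (d * z))) + d * (l * (c * x) * (l * (c * x))) = d →
      l * l * (c * c) = 1 := fun l h => by
    apply mul_left_cancel₀ hd
    linear_combination h - l * l * c * d * hR.1
  refine le_trans (Finset.card_le_card (t := {((x, z), (-(l0 * (d * z)), l0 * (c * x))),
    ((x, z), (-(-l0 * (d * z)), -l0 * (c * x)))}) fun R' hR' => ?_) Finset.card_le_two
  simp only [Finset.mem_filter, Finset.mem_univ, true_and] at hR'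
  obtain ⟨⟨-, h12, h22⟩, hfst⟩ := hR'
  rw [hfst, ← hx, ← hz] at h12
  obtain ⟨l, hl⟩ := hlam R' h12
  rw [hl] at h22
  have e0 : l0 * l0 * (c * c) = 1 := hsq l0 (by have := hR.2.2; rwa [hl0] at this)
  have e : l * l = l0 * l0 := mul_right_cancel₀ (mul_ne_zero hc hc) ((hsq l h22).trans e0.symm)
  have hR'1 : R'.1 = (x, z) := hfst
  simp only [Finset.mem_insert, Finset.mem_singleton]
  rcases mul_self_eq_mul_self_iff.1 e with rfl | rfl
  · exact Or.inl (Prod.ext hR'1 hl)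
  · exact Or.inr (Prod.ext hR'1 hl)

/-- The orbit of a form of rank exactly two. -/
theorem orbit_two (h2 : (2 : F) ≠ 0) {c d : F} (hc : c ≠ 0) (hd : d ≠ 0) {v₁ v₂ : Fin n → F}
    (hli : LinearIndependent F ![v₁, v₂]) (T : Finset (SymM n F))
    (hT : ∀ A : GL (Fin n) F, cong A (sv c v₁ + sv d v₂) ∈ T) :
    (Fintype.card F ^ n - 1) * (Fintype.card F ^ n - Fintype.card F) ≤ 2 * (Fintype.card F + 1) * T.card := by
  classical
  let comb : (Fin n → F) → (Fin n → F) → (F × F) →ₗ[F] (Fin n → F) := fun a b =>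
    (LinearMap.fst F F F).smulRight a + (LinearMap.snd F F F).smulRight b
  have hcomb : ∀ a b, LinearIndependent F ![a, b] → Function.Injective (comb a b) := by
    intro a b h
    rw [injective_iff_map_eq_zero]
    rintro ⟨s, t⟩ hst
    simp [comb] at hst
    obtain ⟨rfl, rfl⟩ := LinearIndependent.pair_iff.1 h s t hst
    rfl
  let L := Finset.univ.filter fun w : Fin 2 → (Fin n → F) => LinearIndependent F w
  let Φ : (Fin 2 → (Fin n → F)) → SymM n F := fun w => sv c (w 0) + sv d (w 1)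
  have himg : L.image Φ ⊆ T := by
    intro M hM
    simp only [L, Finset.mem_image, Finset.mem_filter, Finset.mem_univ, true_and] at hM
    obtain ⟨w, hw, rfl⟩ := hM
    have hw' : LinearIndependent F ![w 0, w 1] := by
      convert hw using 1
      funext k
      fin_cases k <;> rfl
    obtain ⟨π, hπ⟩ := LinearMap.exists_leftInverse_of_injective _ (LinearMap.ker_eq_bot.2 (hcomb v₁ v₂ hli))
    obtain ⟨π', hπ'⟩ := LinearMap.exists_leftInverse_of_injective _ (LinearMap.ker_eq_bot.2 (hcomb _ _ hw'))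
    obtain ⟨E, -, hE⟩ := exists_equiv π π' (comb v₁ v₂) (comb (w 0) (w 1)) (fun x => LinearMap.congr_fun hπ x)
      fun x => LinearMap.congr_fun hπ' x
    obtain ⟨A, hA⟩ := exists_GL E
    have h1 := hE (1, 0)
    have h3 := hE (0, 1)
    simp [comb, ← hA] at h1 h3
    have := hT A
    have e : cong A (sv c v₁ + sv d v₂) = cong A (sv c v₁) + cong A (sv d v₂) :=
      Subtype.ext (by simp [cong, Matrix.mul_add, Matrix.add_mul])
    rwa [e, cong_sv, cong_sv, h1, h3] at this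
  have hfib : ∀ M ∈ L.image Φ, (L.filter fun w => Φ w = M).card ≤ 2 * (Fintype.card F + 1) := by
    intro M hM
    simp only [L, Finset.mem_image, Finset.mem_filter, Finset.mem_univ, true_and] at hM
    obtain ⟨w, hw, rfl⟩ := hM
    have hw' : LinearIndependent F ![w 0, w 1] := by
      convert hw using 1
      funext k
      fin_cases k <;> rfl
    obtain ⟨π, hπ⟩ := LinearMap.exists_leftInverse_of_injective _ (LinearMap.ker_eq_bot.2 (hcomb _ _ hw'))
    have hπ0 : π (w 0) = (1, 0) := by have := LinearMap.congr_fun hπ (1, 0); simpa [comb] using this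
    have hπ1 : π (w 1) = (0, 1) := by have := LinearMap.congr_fun hπ (0, 1); simpa [comb] using this
    refine (Finset.card_le_card_of_injOn (fun w' : Fin 2 → (Fin n → F) =>
      (((π (w' 0)).1, (π (w' 1)).1), ((π (w' 0)).2, (π (w' 1)).2))) ?_ ?_).trans (card_orth h2 hc hd)
    · intro w' hw'
      simp only [L, Finset.coe_filter, Set.mem_setOf_eq, Finset.mem_filter, Finset.mem_univ, true_and] at hw' ⊢
      have hmat : c • Matrix.vecMulVec (w' 0) (w' 0) + d • Matrix.vecMulVec (w' 1) (w' 1) =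
          c • Matrix.vecMulVec (w 0) (w 0) + d • Matrix.vecMulVec (w 1) (w 1) := congrArg Subtype.val hw'.2
      set z1 : Fin n → F := fun k => ((LinearMap.fst F F F).comp π) (Pi.single k 1) with hz1
      set z2 : Fin n → F := fun k => ((LinearMap.snd F F F).comp π) (Pi.single k 1) with hz2
      have p1 : ∀ x, x ⬝ᵥ z1 = (π x).1 := fun x => dot_of_fst _ x
      have p2 : ∀ x, x ⬝ᵥ z2 = (π x).2 := fun x => dot_of_fst _ x
      have happ : ∀ y z : Fin n → F,
          c * ((w' 0 ⬝ᵥ y) * (w' 0 ⬝ᵥ z)) + d * ((w' 1 ⬝ᵥ y) * (w' 1 ⬝ᵥ z)) =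
          c * ((w 0 ⬝ᵥ y) * (w 0 ⬝ᵥ z)) + d * ((w 1 ⬝ᵥ y) * (w 1 ⬝ᵥ z)) := fun y z => by
        have := congrArg (fun M => y ⬝ᵥ M *ᵥ z) hmat
        simp only [Matrix.add_mulVec, Matrix.smul_mulVec, Matrix.vecMulVec_mulVec, dotProduct_add, dotProduct_smul,
          op_smul_eq_smul, smul_eq_mul] at this
        simp only [dotProduct_comm y] at this
        linear_combination this
      refine ⟨?_, ?_, ?_⟩
      · have := happ z1 z1; simp only [p1, hπ0, hπ1] at this; linear_combination this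
      · have := happ z1 z2; simp only [p1, p2, hπ0, hπ1] at this; linear_combination this
      · have := happ z2 z2; simp only [p2, hπ0, hπ1] at this; linear_combination this
    · intro u hu u' hu' huu
      have hspan : ∀ w' : Fin 2 → (Fin n → F), LinearIndependent F w' → Φ w' = Φ w →
          ∀ k, w' k = comb (w 0) (w 1) (π (w' k)) := by
        intro w' hli' he k
        have hmat : c • Matrix.vecMulVec (w' 0) (w' 0) + d • Matrix.vecMulVec (w' 1) (w' 1) =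
            c • Matrix.vecMulVec (w 0) (w 0) + d • Matrix.vecMulVec (w 1) (w 1) := congrArg Subtype.val he
        have hli'' : LinearIndependent F ![w' 0, w' 1] := by
          convert hli' using 1
          funext k
          fin_cases k <;> rfl
        obtain ⟨ρ', hρ'⟩ := LinearMap.exists_leftInverse_of_injective _
          (LinearMap.ker_eq_bot.2 (hcomb _ _ hli''))
        have r0 : ρ' (w' 0) = (1, 0) := by have := LinearMap.congr_fun hρ' (1, 0); simpa [comb] using this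
        have r1 : ρ' (w' 1) = (0, 1) := by have := LinearMap.congr_fun hρ' (0, 1); simpa [comb] using this
        have hmem : ∃ p : F × F, w' k = comb (w 0) (w 1) p := by
          set y1 : Fin n → F := fun j => ((LinearMap.fst F F F).comp ρ') (Pi.single j 1)
          set y2 : Fin n → F := fun j => ((LinearMap.snd F F F).comp ρ') (Pi.single j 1)
          have q1 : ∀ x, x ⬝ᵥ y1 = (ρ' x).1 := fun x => dot_of_fst _ x
          have q2 : ∀ x, x ⬝ᵥ y2 = (ρ' x).2 := fun x => dot_of_fst _ x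
          have happ : ∀ y, (c * (w' 0 ⬝ᵥ y)) • w' 0 + (d * (w' 1 ⬝ᵥ y)) • w' 1 =
              (c * (w 0 ⬝ᵥ y)) • w 0 + (d * (w 1 ⬝ᵥ y)) • w 1 := fun y => by
            have := congrArg (fun M => M *ᵥ y) hmat
            simpa [Matrix.add_mulVec, Matrix.smul_mulVec, Matrix.vecMulVec_mulVec, smul_smul] using this
          fin_cases k
          · refine ⟨(c⁻¹ * (c * (w 0 ⬝ᵥ y1)), c⁻¹ * (d * (w 1 ⬝ᵥ y1))), ?_⟩
            have := happ y1
            rw [q1, q1, r0, r1] at this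
            simp only [mul_one, mul_zero, zero_smul, add_zero] at this
            simp only [comb, LinearMap.add_apply, LinearMap.smulRight_apply, LinearMap.fst_apply,
              LinearMap.snd_apply]
            rw [mul_smul, mul_smul c⁻¹ (d * _), ← smul_add, ← this, smul_smul, inv_mul_cancel₀ hc, one_smul]
            rfl
          · refine ⟨(d⁻¹ * (c * (w 0 ⬝ᵥ y2)), d⁻¹ * (d * (w 1 ⬝ᵥ y2))), ?_⟩
            have := happ y2
            rw [q2, q2, r0, r1] at this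
            simp only [mul_one, mul_zero, zero_smul, zero_add] at this
            simp only [comb, LinearMap.add_apply, LinearMap.smulRight_apply, LinearMap.fst_apply,
              LinearMap.snd_apply]
            rw [mul_smul, mul_smul d⁻¹ (d * _), ← smul_add, ← this, smul_smul, inv_mul_cancel₀ hd, one_smul]
            rfl
        obtain ⟨p, hp⟩ := hmem
        rw [hp, show π (comb (w 0) (w 1) p) = p from LinearMap.congr_fun hπ p]
      simp only [L, Finset.coe_filter, Set.mem_setOf_eq, Finset.mem_filter, Finset.mem_univ, true_and] at hu hu'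
      simp only [Prod.ext_iff] at huu
      funext k
      rw [hspan u hu.1 hu.2 k, hspan u' hu'.1 hu'.2 k]
      congr 1
      fin_cases k
      · exact Prod.ext huu.1.1 huu.2.1
      · exact Prod.ext huu.1.2 huu.2.2
  have h1 := Finset.card_le_mul_card_image _ _ hfib
  have hn : 2 ≤ n := by simpa using hli.fintype_card_le_finrank
  have h3 : L.card = (Fintype.card F ^ n - 1) * (Fintype.card F ^ n - Fintype.card F) := by
    have := card_linearIndependent (K := F) (V := Fin n → F) (k := 2) (by simpa using hn)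
    rw [Nat.card_eq_fintype_card, Fintype.card_subtype] at this
    simpa [L, Fin.prod_univ_two] using this
  have h4 := Finset.card_le_card himg
  rw [← h3]
  exact h1.trans (Nat.mul_le_mul_left _ h4)

/-- The orbit of a form with an orthogonal frame of three vectors. -/
theorem orbit_three (h2 : (2 : F) ≠ 0) (hodd : Fintype.card F % 2 = 1) {S : SymM n F} {u₁ u₂ u₃ : Fin n → F}
    (o12 : u₁ ⬝ᵥ S.1 *ᵥ u₂ = 0) (o13 : u₁ ⬝ᵥ S.1 *ᵥ u₃ = 0) (o23 : u₂ ⬝ᵥ S.1 *ᵥ u₃ = 0)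
    (h1 : u₁ ⬝ᵥ S.1 *ᵥ u₁ ≠ 0) (h22 : u₂ ⬝ᵥ S.1 *ᵥ u₂ ≠ 0) (h33 : u₃ ⬝ᵥ S.1 *ᵥ u₃ ≠ 0) (hn : 2 ≤ n)
    (T : Finset (SymM n F)) (hT : ∀ A : GL (Fin n) F, cong A S ∈ T) :
    (Fintype.card F ^ n - 1) * (Fintype.card F ^ n - Fintype.card F) ≤ 2 * (Fintype.card F + 1) * T.card := by
  classical
  have hsymm : ∀ a b : Fin n → F, a ⬝ᵥ S.1 *ᵥ b = b ⬝ᵥ S.1 *ᵥ a := fun a b => by
    rw [Matrix.dotProduct_mulVec, ← Matrix.mulVec_transpose, show S.1ᵀ = S.1 from S.2, dotProduct_comm]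
  have o21 : u₂ ⬝ᵥ S.1 *ᵥ u₁ = 0 := by rw [hsymm, o12]
  have o31 : u₃ ⬝ᵥ S.1 *ᵥ u₁ = 0 := by rw [hsymm, o13]
  have o32 : u₃ ⬝ᵥ S.1 *ᵥ u₂ = 0 := by rw [hsymm, o23]
  let i0 : Fin n := ⟨0, by omega⟩
  let i1 : Fin n := ⟨1, by omega⟩
  have hi : i1 ≠ i0 := by simp [i0, i1]
  set c := u₁ ⬝ᵥ S.1 *ᵥ u₁ with hc
  set d := u₂ ⬝ᵥ S.1 *ᵥ u₂ with hd
  set e := u₃ ⬝ᵥ S.1 *ᵥ u₃ with he
  -- every binary Gram matrix is represented
  have hrep : ∀ α β γ : F, α ≠ 0 → α * γ - β * β ≠ 0 → ∃ y₁ y₂ : Fin n → F,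
      y₁ ⬝ᵥ S.1 *ᵥ y₁ = α ∧ y₁ ⬝ᵥ S.1 *ᵥ y₂ = β ∧ y₂ ⬝ᵥ S.1 *ᵥ y₂ = γ := by
    intro α β γ hα _
    obtain ⟨a, b, hab⟩ := exists_square_sum hodd h1 h22 α
    obtain ⟨x, z, hxz⟩ := exists_square_sum hodd (mul_ne_zero (mul_ne_zero h1 h22) hα) h33 (γ - β * β / α)
    refine ⟨a • u₁ + b • u₂, (β / α) • (a • u₁ + b • u₂) + x • ((-(d * b)) • u₁ + (c * a) • u₂) + z • u₃,
      ?_, ?_, ?_⟩ <;>
    simp only [Matrix.mulVec_add, Matrix.mulVec_smul, dotProduct_add, add_dotProduct, dotProduct_smul,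
      smul_dotProduct, smul_eq_mul, o12, o13, o23, o21, o31, o32, ← hc, ← hd, ← he]
    · linear_combination hab
    · have : β / α * α = β := div_mul_cancel₀ _ hα
      linear_combination (β / α) * hab + this
    · have hb2 : β / α * (β / α) * α = β * β / α := by field_simp
      linear_combination (β / α * (β / α) + x * x * (c * d)) * hab + hxz + hb2
  let Γ : SymM n F → (Fin n → F) × (Fin n → F) := fun M => (M.1 *ᵥ Pi.single i0 1, M.1 *ᵥ Pi.single i1 1)
  let R := {k : Fin n // k ≠ i0 ∧ k ≠ i1}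
  let D := {a : F // a ≠ 0} × F × {a : F // a ≠ 0} × (R → F) × (R → F)
  let f : D → (Fin n → F) × (Fin n → F) := fun p =>
    (fun k => if h0 : k = i0 then p.1.1 else if h1 : k = i1 then p.2.1 else p.2.2.2.1 ⟨k, h0, h1⟩,
     fun k => if h0 : k = i0 then p.2.1 else if h1 : k = i1 then (p.2.2.1.1 + p.2.1 * p.2.1) / p.1.1
      else p.2.2.2.2 ⟨k, h0, h1⟩)
  have hf : Function.Injective f := by
    rintro ⟨⟨a, ha⟩, b, ⟨g, hg⟩, r, r'⟩ ⟨⟨a', ha'⟩, b', ⟨g', hg'⟩, t, t'⟩ h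
    simp only [f, Prod.ext_iff, funext_iff] at h
    obtain ⟨k1, k2⟩ := h
    have e0 := k1 i0
    have e1 := k1 i1
    have e2 := k2 i1
    simp [hi] at e0 e1 e2
    subst e0; subst e1
    field_simp at e2
    have e2' : g = g' := by linear_combination e2
    subst e2'
    have er : r = t := funext fun k => by simpa [k.2.1, k.2.2] using k1 k.1
    have er' : r' = t' := funext fun k => by simpa [k.2.1, k.2.2] using k2 k.1
    rw [er, er']
  have hcover : ∀ p : D, f p ∈ T.image Γ := by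
    intro p
    set w₁ := (f p).1 with hw1
    set w₂ := (f p).2 with hw2
    set α := p.1.1
    set β := p.2.1
    set γ := (p.2.2.1.1 + β * β) / α
    have hα : α ≠ 0 := p.1.2
    have hdet : α * γ - β * β = p.2.2.1.1 := by
      simp only [γ]; field_simp; ring
    have hdne : α * γ - β * β ≠ 0 := hdet ▸ p.2.2.1.2
    obtain ⟨y₁, y₂, e1, e2, e3⟩ := hrep α β γ hα hdne
    let π : (Fin n → F) →ₗ[F] F × F := (dotProductBilin F F y₁).prod (dotProductBilin F F y₂)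
    let π' : (Fin n → F) →ₗ[F] F × F := (LinearMap.proj i0).prod (LinearMap.proj i1)
    let co : (F × F) →ₗ[F] F × F := ((α * γ - β * β)⁻¹ • ((γ • LinearMap.fst F F F) - β • LinearMap.snd F F F)).prod
      ((α * γ - β * β)⁻¹ • ((α • LinearMap.snd F F F) - β • LinearMap.fst F F F))
    let mk : (Fin n → F) → (Fin n → F) → (F × F) →ₗ[F] (Fin n → F) := fun a b =>
      ((LinearMap.fst F F F).smulRight a + (LinearMap.snd F F F).smulRight b) ∘ₗ co
    have hmk : ∀ (p : (Fin n → F) →ₗ[F] F × F) a b, p a = (α, β) → p b = (β, γ) → ∀ x, p (mk a b x) = x := by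
      intro p a b ha hb x
      obtain ⟨s, t⟩ := x
      have hi := inv_mul_cancel₀ hdne
      simp [mk, co, ha, hb]
      constructor
      · linear_combination s * hi
      · linear_combination t * hi
    have hmk1 : ∀ a b, mk a b (α, β) = a ∧ mk a b (β, γ) = b := by
      intro a b
      have hi := inv_mul_cancel₀ hdne
      have k1 : (α * γ - β * β)⁻¹ * (γ * α - β * β) = 1 := by linear_combination hi
      have k2 : (α * γ - β * β)⁻¹ * (α * β - β * α) = 0 := by ring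
      have k3 : (α * γ - β * β)⁻¹ * (γ * β - β * γ) = 0 := by ring
      constructor <;>
        simp only [mk, co, LinearMap.comp_apply, LinearMap.prod_apply, Pi.prod, Function.prod, LinearMap.smul_apply,
          LinearMap.sub_apply, LinearMap.fst_apply, LinearMap.snd_apply, smul_eq_mul, LinearMap.add_apply,
          LinearMap.smulRight_apply, k1, k2, k3, hi, one_smul, zero_smul, add_zero, zero_add]
    have hπ1 : π (S.1 *ᵥ y₁) = (α, β) := by
      simp [π, e1]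
      rw [hsymm, e2]
    have hπ2 : π (S.1 *ᵥ y₂) = (β, γ) := by simp [π, e2, e3]
    have hπ'1 : π' w₁ = (α, β) := by simp [π', hw1, f, hi, α, β]
    have hπ'2 : π' w₂ = (β, γ) := by simp [π', hw2, f, hi, β, γ, α]
    obtain ⟨L, hL1, hL2⟩ := exists_equiv π π' (mk (S.1 *ᵥ y₁) (S.1 *ᵥ y₂)) (mk w₁ w₂)
      (hmk π _ _ hπ1 hπ2) (hmk π' _ _ hπ'1 hπ'2)
    obtain ⟨A, hA⟩ := exists_GL L
    have hw : A.1 *ᵥ (S.1 *ᵥ y₁) = w₁ ∧ A.1 *ᵥ (S.1 *ᵥ y₂) = w₂ := by
      constructor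
      · rw [hA, ← (hmk1 (S.1 *ᵥ y₁) (S.1 *ᵥ y₂)).1, hL2, (hmk1 w₁ w₂).1]
      · rw [hA, ← (hmk1 (S.1 *ᵥ y₁) (S.1 *ᵥ y₂)).2, hL2, (hmk1 w₁ w₂).2]
    have hrow : A.1ᵀ *ᵥ Pi.single i0 1 = y₁ ∧ A.1ᵀ *ᵥ Pi.single i1 1 = y₂ := by
      constructor <;> refine dotProduct_eq _ _ fun x => ?_ <;>
        rw [Matrix.mulVec_transpose, ← Matrix.dotProduct_mulVec, single_dotProduct, one_mul, hA]
      · exact congrArg Prod.fst (hL1 x)
      · exact congrArg Prod.snd (hL1 x)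
    refine Finset.mem_image.2 ⟨cong A S, hT A, Prod.ext ?_ ?_⟩
    · show (A.1 * S.1 * A.1ᵀ) *ᵥ _ = w₁
      rw [← Matrix.mulVec_mulVec, hrow.1, ← Matrix.mulVec_mulVec, hw.1]
    · show (A.1 * S.1 * A.1ᵀ) *ᵥ _ = w₂
      rw [← Matrix.mulVec_mulVec, hrow.2, ← Matrix.mulVec_mulVec, hw.2]
  have h5 : Fintype.card D ≤ T.card := by
    refine le_trans ?_ (Finset.card_image_le (f := Γ))
    rw [← Finset.card_univ]
    exact Finset.card_le_card_of_injOn f (fun p _ => hcover p) hf.injOn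
  have hR : Fintype.card R = n - 2 := by
    rw [Fintype.card_subtype]
    have : (Finset.univ.filter fun k : Fin n => k ≠ i0 ∧ k ≠ i1) = (Finset.univ.erase i0).erase i1 := by
      ext k; simp [and_comm]
    rw [this, Finset.card_erase_of_mem (by simp [hi]), Finset.card_erase_of_mem (by simp)]
    simp
    omega
  have hq : 3 ≤ Fintype.card F := by
    have := Fintype.one_lt_card (α := F)
    omega
  obtain ⟨m, rfl⟩ : ∃ m, n = m + 2 := ⟨n - 2, by omega⟩
  set q := Fintype.card F with hqd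
  obtain ⟨r, hr⟩ : ∃ r, q = r + 3 := ⟨q - 3, by omega⟩
  have hcard : Fintype.card D = (q - 1) * q * (q - 1) * (q ^ m * q ^ m) := by
    simp [D, Fintype.card_subtype_compl, hR, ← hqd]
    ring
  calc (q ^ (m + 2) - 1) * (q ^ (m + 2) - q) ≤ q ^ (m + 2) * q ^ (m + 2) :=
        Nat.mul_le_mul (Nat.sub_le _ _) (Nat.sub_le _ _)
    _ ≤ 2 * (q + 1) * ((q - 1) * q * (q - 1) * (q ^ m * q ^ m)) := by
        rw [hr, show r + 3 - 1 = r + 2 from rfl, pow_add]
        generalize (r + 3) ^ m = Q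
        have : (r + 3) ^ 4 ≤ 2 * (r + 3 + 1) * ((r + 2) * (r + 3) * (r + 2)) := by
          have h3 : (r + 3) ^ 3 ≤ 2 * (r + 3 + 1) * ((r + 2) * (r + 2)) := by
            ring_nf
            nlinarith [Nat.zero_le (r ^ 3), Nat.zero_le (r ^ 2), Nat.zero_le r]
          calc (r + 3) ^ 4 = (r + 3) ^ 3 * (r + 3) := by ring
            _ ≤ 2 * (r + 3 + 1) * ((r + 2) * (r + 2)) * (r + 3) := Nat.mul_le_mul_right _ h3
            _ = _ := by ring
        calc Q * (r + 3) ^ 2 * (Q * (r + 3) ^ 2) = (r + 3) ^ 4 * (Q * Q) := by ring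
          _ ≤ _ := Nat.mul_le_mul_right _ this
          _ = _ := by ring
    _ ≤ _ := Nat.mul_le_mul_left _ (hcard ▸ h5)

/-- The orbit bound. -/
theorem orbit_bound (h2 : (2 : F) ≠ 0) (hodd : Fintype.card F % 2 = 1) {S : SymM n F}
    (hS : ¬ ∃ (c : F) (v : Fin n → F), S = sv c v) (T : Finset (SymM n F))
    (hT : ∀ A : GL (Fin n) F, cong A S ∈ T) :
    (Fintype.card F ^ n - 1) * (Fintype.card F ^ n - Fintype.card F) ≤ 2 * (Fintype.card F + 1) * T.card := by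
  classical
  have hsymm : ∀ a b : Fin n → F, a ⬝ᵥ S.1 *ᵥ b = b ⬝ᵥ S.1 *ᵥ a := fun a b => by
    rw [Matrix.dotProduct_mulVec, ← Matrix.mulVec_transpose, show S.1ᵀ = S.1 from S.2, dotProduct_comm]
  have hex : ∀ M : SymM n F, M ≠ 0 → ∃ z : Fin n → F, z ⬝ᵥ M.1 *ᵥ z ≠ 0 := by
    intro M hM
    by_contra hc
    push Not at hc
    exact hM (Subtype.ext (Weil.eq_zero_of_forall_quad h2 M.2 hc))
  obtain ⟨u₁, h1⟩ := hex S fun h => hS ⟨0, 0, by rw [h]; exact Subtype.ext (by simp [sv])⟩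
  obtain ⟨c, hc⟩ : ∃ c, c = u₁ ⬝ᵥ S.1 *ᵥ u₁ := ⟨_, rfl⟩
  rw [← hc] at h1
  obtain ⟨v₁, hv1⟩ : ∃ v₁, v₁ = S.1 *ᵥ u₁ := ⟨_, rfl⟩
  obtain ⟨S₁, hS1⟩ : ∃ S₁, S₁ = S - sv c⁻¹ v₁ := ⟨_, rfl⟩
  have hv : ∀ (k : F) (v z : Fin n → F), z ⬝ᵥ (sv k v).1 *ᵥ z = k * ((v ⬝ᵥ z) * (v ⬝ᵥ z)) := fun k v z => by
    simp [sv, Matrix.smul_mulVec, Matrix.vecMulVec_mulVec, dotProduct_comm z v]
  have hb : ∀ z, v₁ ⬝ᵥ z = z ⬝ᵥ S.1 *ᵥ u₁ := fun z => by rw [hv1, dotProduct_comm]
  obtain ⟨z, hz⟩ := hex S₁ fun h => hS ⟨c⁻¹, v₁, sub_eq_zero.1 (hS1 ▸ h)⟩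
  have hval1 : ∀ z, z ⬝ᵥ S₁.1 *ᵥ z = z ⬝ᵥ S.1 *ᵥ z - c⁻¹ * ((z ⬝ᵥ S.1 *ᵥ u₁) * (z ⬝ᵥ S.1 *ᵥ u₁)) := fun z => by
    rw [hS1, AddSubgroup.coe_sub, Matrix.sub_mulVec, dotProduct_sub, hv, hb]
  obtain ⟨u₂, hu2⟩ : ∃ u₂, u₂ = z - (c⁻¹ * (z ⬝ᵥ S.1 *ᵥ u₁)) • u₁ := ⟨_, rfl⟩
  have o12 : u₁ ⬝ᵥ S.1 *ᵥ u₂ = 0 := by
    simp only [hu2, Matrix.mulVec_sub, Matrix.mulVec_smul, dotProduct_sub, dotProduct_smul, smul_eq_mul,
      ← hc, hsymm u₁ z]
    linear_combination (-(z ⬝ᵥ S.1 *ᵥ u₁)) * inv_mul_cancel₀ h1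
  have h22 : u₂ ⬝ᵥ S.1 *ᵥ u₂ ≠ 0 := by
    have e : u₂ ⬝ᵥ S.1 *ᵥ u₂ = z ⬝ᵥ S₁.1 *ᵥ z := by
      rw [hval1]
      simp only [hu2, Matrix.mulVec_sub, Matrix.mulVec_smul, dotProduct_sub, sub_dotProduct, dotProduct_smul,
        smul_dotProduct, smul_eq_mul, hsymm u₁ z, ← hc]
      linear_combination (c⁻¹ * ((z ⬝ᵥ S.1 *ᵥ u₁) * (z ⬝ᵥ S.1 *ᵥ u₁))) * inv_mul_cancel₀ h1
    rwa [e]
  obtain ⟨d, hd⟩ : ∃ d, d = u₂ ⬝ᵥ S.1 *ᵥ u₂ := ⟨_, rfl⟩
  rw [← hd] at h22
  obtain ⟨v₂, hv2⟩ : ∃ v₂, v₂ = S.1 *ᵥ u₂ := ⟨_, rfl⟩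
  by_cases hzero : S - sv c⁻¹ v₁ - sv d⁻¹ v₂ = 0
  · refine orbit_two h2 (inv_ne_zero h1) (inv_ne_zero h22) (v₁ := v₁) (v₂ := v₂) ?_ T fun A => ?_
    · refine LinearIndependent.pair_iff.2 fun s t hst => ?_
      have a1 := congrArg (u₁ ⬝ᵥ ·) hst
      have a2 := congrArg (u₂ ⬝ᵥ ·) hst
      simp only [dotProduct_add, dotProduct_smul, smul_eq_mul, dotProduct_zero, hv1, hv2, ← hc, ← hd, o12,
        hsymm u₂ u₁, mul_zero, add_zero, zero_add, mul_eq_zero, h1, h22, or_false] at a1 a2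
      exact ⟨a1, a2⟩
    · have : sv c⁻¹ v₁ + sv d⁻¹ v₂ = S := by rw [← sub_eq_zero, ← neg_eq_zero, ← hzero]; abel
      rw [this]
      exact hT A
  obtain ⟨y, hy⟩ := hex _ hzero
  obtain ⟨u₃, hu3⟩ : ∃ u₃, u₃ = y - (c⁻¹ * (y ⬝ᵥ S.1 *ᵥ u₁)) • u₁ - (d⁻¹ * (y ⬝ᵥ S.1 *ᵥ u₂)) • u₂ := ⟨_, rfl⟩
  have o21 : u₂ ⬝ᵥ S.1 *ᵥ u₁ = 0 := by rw [hsymm, o12]
  have o13 : u₁ ⬝ᵥ S.1 *ᵥ u₃ = 0 := by
    simp only [hu3, Matrix.mulVec_sub, Matrix.mulVec_smul, dotProduct_sub, dotProduct_smul, smul_eq_mul, o12,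
      ← hc, hsymm u₁ y]
    linear_combination (-(y ⬝ᵥ S.1 *ᵥ u₁)) * inv_mul_cancel₀ h1
  have o23 : u₂ ⬝ᵥ S.1 *ᵥ u₃ = 0 := by
    simp only [hu3, Matrix.mulVec_sub, Matrix.mulVec_smul, dotProduct_sub, dotProduct_smul, smul_eq_mul, o21,
      ← hd, hsymm u₂ y]
    linear_combination (-(y ⬝ᵥ S.1 *ᵥ u₂)) * inv_mul_cancel₀ h22
  have hn : 2 ≤ n := by
    by_contra hlt
    apply hS
    rcases Nat.lt_or_ge n 1 with hn0 | hn1
    · exact ⟨0, 0, Subtype.ext (by ext i; exact absurd i.2 (by omega))⟩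
    · refine ⟨S.1 ⟨0, by omega⟩ ⟨0, by omega⟩, 1, Subtype.ext (Matrix.ext fun i j => ?_)⟩
      have hi : i = ⟨0, by omega⟩ := Fin.ext (by omega)
      have hj : j = ⟨0, by omega⟩ := Fin.ext (by omega)
      rw [hi, hj]
      simp [sv_apply]
  refine orbit_three h2 hodd o12 o13 o23 (hc ▸ h1) (hd ▸ h22) ?_ hn T hT
  have e : u₃ ⬝ᵥ S.1 *ᵥ u₃ = y ⬝ᵥ (S - sv c⁻¹ v₁ - sv d⁻¹ v₂).1 *ᵥ y := by
    rw [AddSubgroup.coe_sub, AddSubgroup.coe_sub, Matrix.sub_mulVec, Matrix.sub_mulVec, dotProduct_sub,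
      dotProduct_sub, hv, hv, hb, show v₂ ⬝ᵥ y = y ⬝ᵥ S.1 *ᵥ u₂ by rw [hv2, dotProduct_comm]]
    simp only [hu3, Matrix.mulVec_sub, Matrix.mulVec_smul, dotProduct_sub, sub_dotProduct, dotProduct_smul,
      smul_dotProduct, smul_eq_mul, o12, o21, ← hc, ← hd, hsymm u₁ y, hsymm u₂ y]
    linear_combination (c⁻¹ * ((y ⬝ᵥ S.1 *ᵥ u₁) * (y ⬝ᵥ S.1 *ᵥ u₁))) * inv_mul_cancel₀ h1 +
      (d⁻¹ * ((y ⬝ᵥ S.1 *ᵥ u₂) * (y ⬝ᵥ S.1 *ᵥ u₂))) * inv_mul_cancel₀ h22
  rwa [e]

end Cfsg.Agent.WeilFour
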