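import Cfsg.Agent.WeilFour.Unique
import Cfsg.Agent.WeilFour.Orbit
import Cfsg.Agent.WeilFour.Model

/-!
An irreducible representation of small degree is trivial or is one of the four Weil representations.
-/

set_option autoImplicit false
set_option linter.unusedSectionVars false

namespace Cfsg.Agent.WeilFour

open Matrix Module Cfsg.Agent.Classical Cfsg.Agent.SUDeg

variable {F : Type*} [Field F] [Fintype F] [DecidableEq F] {n : ℕ}
variable {V : Type*} [AddCommGroup V] [Module ℂ V] [FiniteDimensional ℂ V]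
variable {ρ : Representation ℂ (SpG n F) V} {ψ : AddChar F ℂ}
variable (h2 : (2 : F) ≠ 0) (hψ : ψ ≠ 1)

include h2 hψ

theorem card_spec_le (T : Finset (SymM n F)) (hT : ∀ S ∈ T, E ρ ψ S ≠ ⊥) : T.card ≤ finrank ℂ V := by
  classical
  calc T.card = ∑ S ∈ T, 1 := by simp
    _ ≤ ∑ S ∈ T, finrank ℂ (E ρ ψ S) := Finset.sum_le_sum fun S hS => Submodule.one_le_finrank_iff.2 (hT S hS)
    _ = ∑ χ ∈ T.image (chr ψ), finrank ℂ (eig (uAct ρ) ⊤ χ) := by
        rw [Finset.sum_image fun a _ b _ h => (chr_bijective h2 hψ).1 h]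
        rfl
    _ ≤ finrank ℂ (⊤ : Submodule ℂ V) := sum_finrank_le _
    _ = _ := finrank_top ℂ V

theorem lowRank_of_small (hodd : Fintype.card F % 2 = 1)
    (hk : 2 * (Fintype.card F + 1) * finrank ℂ V < (Fintype.card F ^ n - 1) * (Fintype.card F ^ n - Fintype.card F)) :
    LowRank ρ ψ := by
  classical
  intro S hS
  by_contra hc
  have h := orbit_bound h2 hodd hc (Finset.univ.filter fun M => E ρ ψ M ≠ ⊥) fun A => by
    obtain ⟨v, hv, hv0⟩ := Submodule.exists_mem_ne_zero_of_ne_bot hS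
    refine Finset.mem_filter.2 ⟨Finset.mem_univ _, (Submodule.ne_bot_iff _).2 ⟨_, lv_mem hv A, fun h0 => hv0 ?_⟩⟩
    exact rho_inj (ρ := ρ) (lv A) (h0.trans (map_zero _).symm)
  have := card_spec_le (ρ := ρ) h2 hψ (Finset.univ.filter fun M => E ρ ψ M ≠ ⊥) fun M hM => (Finset.mem_filter.1 hM).2
  exact absurd (h.trans (Nat.mul_le_mul_left _ this)) (not_le.2 hk)

theorem exists_nonzero_weight (hn : 2 ≤ n) (hρ : ρ.IsIrreducible) (hd : finrank ℂ V ≠ 1) :
    ∃ S : SymM n F, S ≠ 0 ∧ E ρ ψ S ≠ ⊥ := by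
  by_contra hc
  push Not at hc
  have hq : 3 ≤ Fintype.card F := by
    by_contra hlt
    push Not at hlt
    have h := Fintype.one_lt_card (α := F)
    have h2' : Fintype.card F = 2 := by omega
    apply h2
    have := FiniteField.cast_card_eq_zero F
    rw [h2'] at this
    exact_mod_cast this
  have hfix : ∀ (X : SymM n F) (v : V), ρ (uS X) v = v := by
    intro X v
    have e : P ρ ψ 0 v = v := by
      conv_rhs => rw [← sum_P (ρ := ρ) h2 hψ v, Finset.sum_eq_single (0 : SymM n F) (fun S _ hS => by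
        have := P_mem (ρ := ρ) (ψ := ψ) S v
        rwa [hc S hS, Submodule.mem_bot] at this) (by simp)]
    have h := mem_E.1 (P_mem (ρ := ρ) (ψ := ψ) 0 v) X
    rw [e] at h
    simpa using h
  have hker : MonoidHom.ker ρ = ⊤ := by
    by_contra hne
    let i0 : Fin n := ⟨0, by omega⟩
    have hX : (symN i0 i0 (1 : F)).1 ≠ 0 := fun h => h2 (by
      have := congrFun (congrFun h i0) i0
      simpa [symN, one_add_one_eq_two] using this)
    exact Weil.lowU_not_central _ hX (Weil.ker_le_center hn hq _ hne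
      (MonoidHom.mem_ker.2 (LinearMap.ext fun v => hfix (symN i0 i0 1) v)))
  obtain ⟨hnt, hU⟩ := Char.isIrreducible_iff.1 hρ
  obtain ⟨v, hv⟩ := exists_ne (0 : V)
  rcases hU (Submodule.span ℂ {v}) (fun g w hw => by
    have : ρ g = 1 := MonoidHom.mem_ker.1 (hker ▸ Subgroup.mem_top g)
    rwa [this, Module.End.one_apply]) with h | h
  · exact hv (Submodule.span_singleton_eq_bot.1 h)
  · apply hd
    rw [← finrank_top, ← h, finrank_span_singleton hv]

omit h2 hψ

theorem exists_sign (hρ : ρ.IsIrreducible) :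
    ∃ ε : ℂ, ε * ε = 1 ∧ ∀ v, ρ (lv (-1)) v = ε • v := by
  obtain ⟨hnt, hU⟩ := Char.isIrreducible_iff.1 hρ
  obtain ⟨ε, hε⟩ := Module.End.exists_eigenvalue (ρ (lv (-1)))
  have hcomm : ∀ g : SpG n F, g * lv (-1 : GL (Fin n) F) = lv (-1 : GL (Fin n) F) * g := fun g => by
    apply Subtype.ext
    have : ((lv (-1 : GL (Fin n) F) : SpG n F) : Matrix (Fin n ⊕ Fin n) (Fin n ⊕ Fin n) F) = -1 := by
      rw [coe_lv, show (-1 : GL (Fin n) F)⁻¹ = -1 by simp, ← Matrix.fromBlocks_one, Matrix.fromBlocks_neg]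
      simp
    rw [Submonoid.coe_mul, Submonoid.coe_mul, this, mul_neg_one, neg_one_mul]
  rcases hU (Module.End.eigenspace (ρ (lv (-1))) ε) (fun g v hv => by
    rw [Module.End.mem_eigenspace_iff] at hv ⊢
    rw [← Module.End.mul_apply, ← map_mul, ← hcomm, map_mul, Module.End.mul_apply, hv, map_smul]) with h | h
  · exact absurd h hε
  have hall : ∀ v, ρ (lv (-1)) v = ε • v := fun v =>
    Module.End.mem_eigenspace_iff.1 (h ▸ Submodule.mem_top)
  obtain ⟨v, hv⟩ := exists_ne (0 : V)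
  have h1 : ρ (lv (-1 : GL (Fin n) F)) (ρ (lv (-1)) v) = v := by
    rw [← Module.End.mul_apply, ← map_mul, ← map_mul, neg_one_mul, neg_neg, map_one, map_one, Module.End.one_apply]
  rw [hall, hall, smul_smul] at h1
  exact ⟨ε, smul_left_injective ℂ hv (h1.trans (one_smul ℂ v).symm), hall⟩

include h2

theorem exists_class {ν c : F} (hν : ¬ IsSquare ν) (hc : c ≠ 0) :
    ∃ a y : F, (a = 1 ∨ a = ν) ∧ y ≠ 0 ∧ c * y * y = kap a := by
  have hν0 : ν ≠ 0 := fun h => hν (h ▸ IsSquare.zero)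
  have hF : ringChar F ≠ 2 := fun h => h2 (by
    have := ringChar.Nat.cast_ringChar (R := F)
    rw [h] at this
    exact_mod_cast this)
  have hk : ∀ a : F, a ≠ 0 → kap a ≠ 0 := fun a ha => by simp [kap, ha, h2]
  have key : ∀ a : F, a ≠ 0 → IsSquare (kap a / c) → ∃ y : F, y ≠ 0 ∧ c * y * y = kap a := by
    rintro a ha ⟨y, hy⟩
    refine ⟨y, fun h => hk a ha ?_, ?_⟩
    · rw [h, mul_zero, div_eq_zero_iff] at hy
      exact hy.resolve_right hc
    · rw [mul_assoc, ← hy, mul_div_cancel₀ _ hc]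
  by_cases h1 : IsSquare (kap 1 / c)
  · obtain ⟨y, hy⟩ := key 1 one_ne_zero h1
    exact ⟨1, y, Or.inl rfl, hy⟩
  · have h3 : IsSquare (kap ν / c) := by
      have h0 : kap 1 / c ≠ 0 := div_ne_zero (hk 1 one_ne_zero) hc
      have e1 := quadraticChar_neg_one_iff_not_isSquare.2 h1
      have e2 := quadraticChar_neg_one_iff_not_isSquare.2 hν
      rw [← quadraticChar_one_iff_isSquare (div_ne_zero (hk ν hν0) hc),
        show kap ν / c = ν * (kap 1 / c) by simp [kap]; ring, map_mul, e1, e2]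
      norm_num
    obtain ⟨y, hy⟩ := key ν hν0 h3
    exact ⟨ν, y, Or.inr rfl, hy⟩

include hψ

theorem mulShift_ne {a : F} (ha : a ≠ 0) : ψ.mulShift a ≠ 1 := by
  obtain ⟨x, hx⟩ := AddChar.ne_one_iff.1 hψ
  refine AddChar.ne_one_iff.2 ⟨x / a, ?_⟩
  rwa [AddChar.mulShift_apply, mul_div_cancel₀ _ ha]

theorem nu_ne {ν : F} (hν : ¬ IsSquare ν) : ν ≠ 0 := fun h => hν (h ▸ IsSquare.zero)

theorem wRep_lowRank [Nontrivial (Fin n)] {a : F} (ha : a ≠ 0) (s : ℂ) :
    LowRank (wRep (n := n) (mulShift_ne h2 hψ ha) h2 s) ψ := by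
  intro S hS
  obtain ⟨f, hf, hf0⟩ := Submodule.exists_mem_ne_zero_of_ne_bot hS
  obtain ⟨y, hy⟩ : ∃ y, (f : (Fin n → F) → ℂ) y ≠ 0 := by
    by_contra h
    push Not at h
    exact hf0 (Subtype.ext (funext h))
  exact ⟨_, y, spec_eq _ h2 hψ rfl hf hy⟩

/-- The classification in small degree. -/
theorem classify [Nontrivial (Fin n)] (hodd : Odd (Fintype.card F)) {ν : F} (hν : ¬ IsSquare ν)
    (hρ : ρ.IsIrreducible) (hd : finrank ℂ V ≠ 1)
    (hk : 2 * (Fintype.card F + 1) * finrank ℂ V < (Fintype.card F ^ n - 1) * (Fintype.card F ^ n - Fintype.card F)) :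
    ∃ (a : F) (ha : a ≠ 0) (s : ℂ), (a = 1 ∨ a = ν) ∧ (s = 1 ∨ s = -1) ∧
      ρ.character = (wRep (n := n) (mulShift_ne h2 hψ ha) h2 s).character := by
  have hn : 2 ≤ n := by
    have := Fintype.one_lt_card (α := Fin n)
    rw [Fintype.card_fin] at this
    omega
  have hlow := lowRank_of_small (ρ := ρ) h2 hψ (Nat.odd_iff.1 hodd) hk
  obtain ⟨S, hS0, hS⟩ := exists_nonzero_weight h2 hψ hn hρ hd
  obtain ⟨c, v, rfl⟩ := hlow S hS
  have hc : c ≠ 0 := fun h => hS0 (Subtype.ext (by simp [sv, h]))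
  have hv : v ≠ 0 := fun h => hS0 (Subtype.ext (by simp [sv, h]))
  obtain ⟨a, y, hay, hy, hcy⟩ := exists_class h2 hν hc
  have ha : a ≠ 0 := by
    rcases hay with rfl | rfl
    · exact one_ne_zero
    · exact nu_ne h2 hψ hν
  let j0 : Fin n := ⟨0, by omega⟩
  obtain ⟨A, hA, hAv⟩ := Weil.exists_map v (y • ev j0) hv (smul_ne_zero hy (ev_ne j0))
  obtain ⟨w, hw, hw0⟩ := Submodule.exists_mem_ne_zero_of_ne_bot hS
  have hb : ρ (lv hA.unit) w ∈ E ρ ψ (sv (kap a) (ev j0)) := by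
    have := lv_mem hw hA.unit
    rwa [cong_sv, IsUnit.unit_spec, hAv, sv_smul, hcy] at this
  obtain ⟨ε, hε2, hε⟩ := exists_sign hρ
  have hψa := mulShift_ne h2 hψ ha
  obtain ⟨k, hk2, hwk⟩ := wRep_neg (n := n) hψa h2
  set s : ℂ := ε * k with hsd
  have hs2 : s * s = 1 := by
    calc s * s = (ε * ε) * (k * k) := by rw [hsd]; ring
      _ = 1 := by rw [hε2, hk2, one_mul]
  have hs : s = 1 ∨ s = -1 := mul_self_eq_one_iff.1 hs2
  have hsk : s * k = ε := by rw [hsd, mul_assoc, hk2, mul_one]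
  refine ⟨a, ha, s, hay, hs, ?_⟩
  obtain ⟨f, hf, hf0⟩ := Submodule.exists_mem_ne_zero_of_ne_bot
    (spec_mem (n := n) hψa h2 hψ rfl s hs2 (ev j0) (ev_ne j0))
  refine unique_character h2 hψ hρ (wRep_irreducible hψa h2 hodd hs) hlow (wRep_lowRank h2 hψ ha s) hε
    (fun v => by rw [hwk, hsk]) (by simp [kap, ha, h2]) hb (fun h => hw0 ?_) hf hf0
  exact rho_inj (ρ := ρ) _ (h.trans (map_zero _).symm)

/-- The four Weil characters are distinct. -/
theorem wRep_char_ne [Nontrivial (Fin n)] {ν : F} (hν : ¬ IsSquare ν) {s : ℂ} (hs : s * s = 1) :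
    (wRep (n := n) (mulShift_ne h2 hψ (one_ne_zero (α := F))) h2 s).character ≠
      (wRep (n := n) (mulShift_ne h2 hψ (nu_ne h2 hψ hν)) h2 s).character := by
  intro h
  obtain ⟨e, he⟩ := Char.nonempty_equiv_of_character_eq _ _ h
  let j0 : Fin n := Classical.arbitrary _
  obtain ⟨f, hf, hf0⟩ := Submodule.exists_mem_ne_zero_of_ne_bot
    (spec_mem (n := n) (mulShift_ne h2 hψ (one_ne_zero (α := F))) h2 hψ rfl s hs (ev j0) (ev_ne j0))
  have hef : e f ∈ E (wRep (n := n) (mulShift_ne h2 hψ (nu_ne h2 hψ hν)) h2 s) ψ (sv (kap 1) (ev j0)) :=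
    mem_E.2 fun X => by rw [← he, mem_E.1 hf X, map_smul]
  obtain ⟨y, hy⟩ : ∃ y, (e f : (Fin n → F) → ℂ) y ≠ 0 := by
    by_contra h'
    push Not at h'
    exact hf0 (e.map_eq_zero_iff.1 (Subtype.ext (funext h')))
  have := congrFun (congrFun (congrArg Subtype.val (spec_eq _ h2 hψ rfl hef hy)) j0) j0
  simp [sv_apply, kap] at this
  apply hν
  have hinv : (2 : F)⁻¹ ≠ 0 := inv_ne_zero h2
  have e1 : ν * (y j0 * y j0) = 1 := mul_right_cancel₀ hinv (by linear_combination -this)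
  have hy0 : y j0 ≠ 0 := fun h => by rw [h, mul_zero, mul_zero] at e1; exact zero_ne_one e1
  exact ⟨(y j0)⁻¹, by field_simp; linear_combination e1⟩

end Cfsg.Agent.WeilFour
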