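import Cfsg.Agent.WeilFour.Spec

/-!
The action of a coordinate Fourier element on the eigenvectors of rank one with another coordinate in the support:
it is a scalar multiple of a sum over shears.
-/

set_option autoImplicit false
set_option linter.unusedSectionVars false

namespace Cfsg.Agent.WeilFour

open Matrix

variable {F : Type*} [Field F] [Fintype F] [DecidableEq F] {n : ℕ}
variable {V : Type*} [AddCommGroup V] [Module ℂ V]
variable {ρ : Representation ℂ (SpG n F) V} {ψ : AddChar F ℂ}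

/-- The unit vector. -/
abbrev ev (j : Fin n) : Fin n → F := Pi.single j 1

theorem hG_mulVec (i j : Fin n) (hij : i ≠ j) (t : F) :
    (hG i j hij t).1 *ᵥ ev j = ev j + t • ev i := by
  funext k
  rcases eq_or_ne k i with rfl | h <;> rcases eq_or_ne k j with rfl | h' <;>
    simp_all [coe_hG, Matrix.transvection, Matrix.one_apply, Matrix.single_apply, ev, eq_comm]

theorem hG_zero (i j : Fin n) (hij : i ≠ j) : hG i j hij (0 : F) = 1 :=
  Units.ext (by simp [coe_hG])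

theorem dG_one (i : Fin n) : dG i (1 : F) one_ne_zero = 1 :=
  Units.ext (by simp [dG])

theorem dG_mulVec (i : Fin n) (l : F) (hl : l ≠ 0) (v : Fin n → F) (hv : v i = 0) :
    (dG i l hl).1 *ᵥ v = v := by
  funext k
  rcases eq_or_ne k i with rfl | h
  · simp [dG, Matrix.mulVec_diagonal, hv]
  · simp [dG, Matrix.mulVec_diagonal, h]

variable (h2 : (2 : F) ≠ 0) (hψ : ψ ≠ 1)
include h2 hψ

theorem entries_agree (i : Fin n) {S₀ S : SymM n F} {v : V} (hv : v ∈ E ρ ψ S₀)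
    (hne : P ρ ψ S (ρ (wS {i}) v) ≠ 0) {k l : Fin n} (hk : k ≠ i) (hl : l ≠ i) : S.1 k l = S₀.1 k l := by
  refine entry_eq h2 hψ fun t => agree_of_comm h2 hψ (w_uS_comm i _ fun a => ?_) hv hne
  simp [symN, Matrix.single_apply, hk, hl]

theorem shape (hr : LowRank ρ ψ) {i j : Fin n} (hij : i ≠ j) {c : F} (hc : c ≠ 0) {m : V}
    (hm : m ∈ E ρ ψ (sv c (ev j))) {S : SymM n F} (hne : P ρ ψ S (ρ (wS {i}) m) ≠ 0) :
    ∃ t : F, S = sv c (ev j + t • ev i) := by
  obtain ⟨b, u, rfl⟩ := exists_sv hr (P_mem S _) hne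
  have he : ∀ k l, k ≠ i → l ≠ i → b * (u k * u l) = c * (ev (F := F) j k * ev j l) := fun k l hk hl => by
    have := entries_agree h2 hψ i hm hne hk hl
    rwa [sv_apply, sv_apply] at this
  have hjj : b * (u j * u j) = c := by simpa using he j j hij.symm hij.symm
  have hb : b ≠ 0 := fun h => hc (by rw [← hjj, h, zero_mul])
  have huj : u j ≠ 0 := fun h => hc (by rw [← hjj, h]; ring)
  refine ⟨u i / u j, ?_⟩
  have hu : u = u j • (ev j + (u i / u j) • ev i) := by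
    funext k
    rcases eq_or_ne k i with rfl | hki
    · simp [hij]
      field_simp
    rcases eq_or_ne k j with rfl | hkj
    · simp [hki]
    · have := he k k hki hki
      simp [hkj] at this
      simp [hki, hkj, (this.resolve_left hb)]
  conv_lhs => rw [hu]
  rw [sv_smul, show b * u j * u j = c by rw [← hjj]; ring]

theorem trace_shift {i j : Fin n} (hij : i ≠ j) (c s t : F) :
    ((sv c (ev j + s • ev i)).1 * (symN i j t).1).trace = t * (2 * c * s) := by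
  rw [trace_symN, sv_apply]
  simp [hij, hij.symm]
  ring

/-- The leading coefficient of a Fourier element. -/
noncomputable def Kop (ρ : Representation ℂ (SpG n F) V) (ψ : AddChar F ℂ) (i j : Fin n) (c : F) : Module.End ℂ V :=
  P ρ ψ (sv c (ev j)) * ρ (wS {i})

theorem Kop_mem (i j : Fin n) (c : F) (m : V) : Kop ρ ψ i j c m ∈ E ρ ψ (sv c (ev j)) := P_mem _ _

theorem hG_mem {i j : Fin n} (hij : i ≠ j) {c : F} {m : V} (hm : m ∈ E ρ ψ (sv c (ev j))) (t : F) :
    ρ (lv (hG i j hij t)) m ∈ E ρ ψ (sv c (ev j + t • ev i)) := by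
  have := lv_mem hm (hG i j hij t)
  rwa [cong_sv, hG_mulVec] at this

theorem w_expand (hr : LowRank ρ ψ) {i j : Fin n} (hij : i ≠ j) {c : F} (hc : c ≠ 0) {m : V}
    (hm : m ∈ E ρ ψ (sv c (ev j))) :
    ρ (wS {i}) m = ∑ t : F, ρ (lv (hG i j hij t)) (Kop ρ ψ i j c m) := by
  have hinj : Function.Injective fun t : F => sv c (ev j + t • ev (F := F) i) := fun s t h => by
    have := congrFun (congrFun (congrArg Subtype.val h) i) j
    simp only [sv_apply] at this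
    simpa [hij, hij.symm, hc] using this
  have hfix : ∀ t, ρ (lv (hG i j hij t)) (ρ (wS {i}) m) = ρ (wS {i}) m := fun t => by
    rw [← Module.End.mul_apply, ← map_mul, ← w_symN, map_mul, Module.End.mul_apply, mem_E.1 hm, trace_symN,
      sv_apply]
    simp [hij]
  conv_lhs => rw [← sum_P (ρ := ρ) h2 hψ (ρ (wS {i}) m)]
  rw [← Fintype.sum_of_injective _ hinj (fun t => P ρ ψ (sv c (ev j + t • ev (F := F) i)) (ρ (wS {i}) m))
    (fun S => P ρ ψ S (ρ (wS {i}) m)) (fun S hS => by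
      by_contra hne
      obtain ⟨t, ht⟩ := shape h2 hψ hr hij hc hm hne
      exact hS ⟨t, ht.symm⟩) fun t => rfl]
  refine Finset.sum_congr rfl fun t _ => ?_
  conv_lhs => rw [← hfix t, ← hG_mulVec i j hij t, ← cong_sv, P_lv h2 hψ]
  rfl

theorem w_hG_expand (hr : LowRank ρ ψ) {i j : Fin n} (hij : i ≠ j) {c : F} (hc : c ≠ 0) {m : V}
    (hm : m ∈ E ρ ψ (sv c (ev j))) (s : F) :
    ρ (wS {i}) (ρ (lv (hG i j hij s)) m) =
      ∑ t : F, ψ (-s * (2 * c * t)) • ρ (lv (hG i j hij t)) (Kop ρ ψ i j c m) := by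
  rw [← Module.End.mul_apply, ← map_mul, w_hG, map_mul, Module.End.mul_apply, w_expand h2 hψ hr hij hc hm,
    map_sum]
  refine Finset.sum_congr rfl fun t _ => ?_
  rw [mem_E.1 (hG_mem h2 hψ hij (Kop_mem h2 hψ i j c m) t), trace_shift h2 hψ hij]

theorem w_sq_expand (hr : LowRank ρ ψ) {i j : Fin n} (hij : i ≠ j) {c : F} (hc : c ≠ 0) {m : V}
    (hm : m ∈ E ρ ψ (sv c (ev j))) :
    ρ (lv (dG i (-1) (by simp))) m = (Fintype.card F : ℂ) • Kop ρ ψ i j c (Kop ρ ψ i j c m) := by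
  rw [← w_sq, map_mul, Module.End.mul_apply, w_expand h2 hψ hr hij hc hm, map_sum]
  simp only [w_hG_expand h2 hψ hr hij hc (Kop_mem h2 hψ i j c m)]
  rw [Finset.sum_comm, Finset.sum_eq_single (0 : F)]
  · simp [hG_zero, ← Finset.sum_smul, ← Nat.cast_smul_eq_nsmul ℂ]
  · intro t _ ht
    rw [← Finset.sum_smul]
    have h0 : (∑ s : F, ψ (-s * (2 * c * t))) = 0 := by
      let χ : AddChar F ℂ := ⟨fun s => ψ (-s * (2 * c * t)), by simp, fun a b => by
        rw [← AddChar.map_add_eq_mul]; ring_nf⟩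
      have hχ : χ ≠ 1 := fun h => by
        obtain ⟨a, ha⟩ := AddChar.ne_one_iff.1 hψ
        apply ha
        have hne : 2 * c * t ≠ 0 := mul_ne_zero (mul_ne_zero h2 hc) ht
        have := DFunLike.congr_fun h (-a / (2 * c * t))
        simpa [χ, neg_div, div_mul_cancel₀ _ hne] using this
      exact AddChar.sum_eq_zero_of_ne_one hχ
    rw [h0, zero_smul]
  · simp

theorem step (hr : LowRank ρ ψ) {i j : Fin n} (hij : i ≠ j) {c : F} (hc : c ≠ 0) {m : V}
    (hm : m ∈ E ρ ψ (sv c (ev j))) (a : F) (f : F → ℂ) :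
    ρ (wS {i} * uS (symD i a)) (∑ s, f s • ρ (lv (hG i j hij s)) m) =
      ∑ t : F, (∑ s, f s * ψ (a * (c * s * s)) * ψ (-s * (2 * c * t))) •
        ρ (lv (hG i j hij t)) (Kop ρ ψ i j c m) := by
  rw [map_sum]
  have h : ∀ s, ρ (wS {i} * uS (symD i a)) (f s • ρ (lv (hG i j hij s)) m) =
      ∑ t : F, (f s * ψ (a * (c * s * s)) * ψ (-s * (2 * c * t))) •
        ρ (lv (hG i j hij t)) (Kop ρ ψ i j c m) := fun s => by
    rw [map_smul, map_mul, Module.End.mul_apply, mem_E.1 (hG_mem h2 hψ hij hm s), map_smul,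
      w_hG_expand h2 hψ hr hij hc hm, trace_symD, sv_apply, smul_smul, Finset.smul_sum]
    refine Finset.sum_congr rfl fun t _ => ?_
    rw [smul_smul]
    congr 3
    simp [hij, mul_assoc]
  simp only [h]
  rw [Finset.sum_comm]
  simp only [← Finset.sum_smul]

theorem torus_cube (hr : LowRank ρ ψ) {i j : Fin n} (hij : i ≠ j) {c : F} (hc : c ≠ 0) (l : F) (hl : l ≠ 0) :
    ∃ γ : ℂ, ∀ m ∈ E ρ ψ (sv c (ev j)),
      ρ (lv (dG i l hl)) m = γ • Kop ρ ψ i j c (Kop ρ ψ i j c (Kop ρ ψ i j c m)) := by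
  let f1 : F → ℂ := fun t => ∑ s : F, (if s = 0 then 1 else 0) * ψ (-l * (c * s * s)) * ψ (-s * (2 * c * t))
  let f2 : F → ℂ := fun t => ∑ s : F, f1 s * ψ (-l⁻¹ * (c * s * s)) * ψ (-s * (2 * c * t))
  let f3 : F → ℂ := fun t => ∑ s : F, f2 s * ψ (-l * (c * s * s)) * ψ (-s * (2 * c * t))
  refine ⟨f3 0, fun m hm => ?_⟩
  have h1 := Kop_mem (ρ := ρ) h2 hψ i j c m
  have h2' := Kop_mem (ρ := ρ) h2 hψ i j c (Kop ρ ψ i j c m)
  have h3 := Kop_mem (ρ := ρ) h2 hψ i j c (Kop ρ ψ i j c (Kop ρ ψ i j c m))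
  have e : m = ∑ s : F, (if s = 0 then (1 : ℂ) else 0) • ρ (lv (hG i j hij s)) m := by
    simp [hG_zero]
  have hd : ρ (lv (dG i l hl)) m = ∑ t, f3 t • ρ (lv (hG i j hij t))
      (Kop ρ ψ i j c (Kop ρ ψ i j c (Kop ρ ψ i j c m))) := by
    conv_lhs => rw [lv_dG, map_mul (ρ : SpG n F →* Module.End ℂ V), map_mul, Module.End.mul_apply,
      Module.End.mul_apply, e, step h2 hψ hr hij hc hm, step h2 hψ hr hij hc h1, step h2 hψ hr hij hc h2']
  have hmem : ρ (lv (dG i l hl)) m ∈ E ρ ψ (sv c (ev j)) := by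
    have := lv_mem hm (dG i l hl)
    rwa [cong_sv, dG_mulVec i l hl _ (by simp [hij])] at this
  rw [← P_self h2 hψ hmem, hd, map_sum, Finset.sum_eq_single (0 : F)]
  · simp [hG_zero, P_self h2 hψ h3]
  · intro t _ ht
    rw [map_smul, P_of_mem h2 hψ (hG_mem h2 hψ hij h3 t), if_neg, smul_zero]
    intro h
    have := congrFun (congrFun (congrArg Subtype.val h) i) j
    simp [sv_apply, hij, hij.symm, hc, ht] at this
  · simp

theorem block (hr : LowRank ρ ψ) {i j : Fin n} (hij : i ≠ j) {c : F} (hc : c ≠ 0) :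
    (∃ κ : ℂ, κ ≠ 0 ∧ ∀ m ∈ E ρ ψ (sv c (ev j)),
      ρ (wS {i}) m = κ • ∑ t : F, ρ (lv (hG i j hij t)) m) ∧
    ∀ (l : F) (hl : l ≠ 0), ∃ γ : ℂ, ∀ m ∈ E ρ ψ (sv c (ev j)), ρ (lv (dG i l hl)) m = γ • m := by
  by_cases h0 : ∀ m ∈ E ρ ψ (sv c (ev j)), m = 0
  · exact ⟨⟨1, one_ne_zero, fun m hm => by simp [h0 m hm]⟩, fun l hl => ⟨1, fun m hm => by simp [h0 m hm]⟩⟩
  push Not at h0
  obtain ⟨m0, hm0, hne⟩ := h0
  set K := Kop ρ ψ i j c with hK
  obtain ⟨g, hg⟩ := torus_cube h2 hψ hr hij hc 1 one_ne_zero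
  obtain ⟨g', hg'⟩ := torus_cube h2 hψ hr hij hc (-1) (neg_ne_zero.2 one_ne_zero)
  have hone : ∀ m ∈ E ρ ψ (sv c (ev j)), m = g • K (K (K m)) := fun m hm => by
    conv_lhs => rw [show m = ρ (lv (dG i 1 one_ne_zero)) m by simp [dG_one], hg m hm]
  have hg0 : g ≠ 0 := fun h => hne (by rw [hone m0 hm0, h, zero_smul])
  have hcube : ∀ m ∈ E ρ ψ (sv c (ev j)), K (K (K m)) = g⁻¹ • m := fun m hm => by
    conv_rhs => rw [hone m hm, smul_smul, inv_mul_cancel₀ hg0, one_smul]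
  have hq : (Fintype.card F : ℂ) ≠ 0 := Nat.cast_ne_zero.2 Fintype.card_ne_zero
  set d : ℂ := (Fintype.card F : ℂ)⁻¹ * (g' * g⁻¹) with hd
  have hsq : ∀ m ∈ E ρ ψ (sv c (ev j)), K (K m) = d • m := fun m hm => by
    have := hg' m hm
    rw [w_sq_expand h2 hψ hr hij hc hm, hcube m hm, smul_smul] at this
    rw [hd, mul_smul, ← this, smul_smul, inv_mul_cancel₀ hq, one_smul]
  have hd0 : d ≠ 0 := fun h => hne (by
    have := hcube m0 hm0
    rw [hsq m0 hm0, h, zero_smul, map_zero, eq_comm, smul_eq_zero] at this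
    exact this.resolve_left (inv_ne_zero hg0))
  have hlin : ∀ m ∈ E ρ ψ (sv c (ev j)), K m = (d⁻¹ * g⁻¹) • m := fun m hm => by
    have := hcube m hm
    rw [hsq m hm, map_smul] at this
    rw [mul_smul, ← this, smul_smul, inv_mul_cancel₀ hd0, one_smul]
  refine ⟨⟨d⁻¹ * g⁻¹, mul_ne_zero (inv_ne_zero hd0) (inv_ne_zero hg0), fun m hm => ?_⟩, fun l hl => ?_⟩
  · rw [w_expand h2 hψ hr hij hc hm, ← hK, hlin m hm, Finset.smul_sum]
    simp only [map_smul]
  · obtain ⟨g1, hg1⟩ := torus_cube h2 hψ hr hij hc l hl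
    exact ⟨g1 * g⁻¹, fun m hm => by rw [hg1 m hm, hcube m hm, smul_smul]⟩

end Cfsg.Agent.WeilFour
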