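import Cfsg.Agent.WeilFour.Stab

/-!
For a representation of rank one, the orbit span of an eigenvector of a matrix of rank one meets the eigenspace
in a line.
-/

set_option autoImplicit false
set_option linter.unusedSectionVars false

namespace Cfsg.Agent.WeilFour

open Matrix

variable {F : Type*} [Field F] [Fintype F] [DecidableEq F] {n : ℕ}
variable {V : Type*} [AddCommGroup V] [Module ℂ V]
variable {ρ : Representation ℂ (SpG n F) V} {ψ : AddChar F ℂ}

/-- The span of the translates under the Levi part. -/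
def Ysp (ρ : Representation ℂ (SpG n F) V) (φ : V) : Submodule ℂ V :=
  Submodule.span ℂ (Set.range fun A : GL (Fin n) F => ρ (lv A) φ)

/-- The span of the translates with a nonzero coordinate. -/
def Zsp (ρ : Representation ℂ (SpG n F) V) (φ : V) (j0 i : Fin n) : Submodule ℂ V :=
  Submodule.span ℂ ((fun A : GL (Fin n) F => ρ (lv A) φ) '' {A | (A.1 *ᵥ ev j0) i ≠ 0})

theorem Zsp_le (φ : V) (j0 i : Fin n) : Zsp ρ φ j0 i ≤ Ysp ρ φ :=
  Submodule.span_mono (Set.image_subset_range _ _)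

theorem gen_mem_Y (φ : V) (A : GL (Fin n) F) : ρ (lv A) φ ∈ Ysp ρ φ := Submodule.subset_span ⟨A, rfl⟩

theorem lv_mem_Y {φ y : V} (hy : y ∈ Ysp ρ φ) (A : GL (Fin n) F) : ρ (lv A) y ∈ Ysp ρ φ := by
  induction hy using Submodule.span_induction with
  | mem x hx =>
    obtain ⟨B, rfl⟩ := hx
    rw [← Module.End.mul_apply, ← map_mul, ← map_mul]
    exact gen_mem_Y φ _
  | zero => simp
  | add x y _ _ hx hy => rw [map_add]; exact add_mem hx hy
  | smul a x _ hx => rw [map_smul]; exact Submodule.smul_mem _ a hx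

theorem GL_mulVec_ne (A : GL (Fin n) F) {v : Fin n → F} (hv : v ≠ 0) : A.1 *ᵥ v ≠ 0 := fun h => hv (by
  rw [← Matrix.one_mulVec v, ← A.inv_mul, ← Matrix.mulVec_mulVec, h, Matrix.mulVec_zero])

theorem ev_ne (j : Fin n) : ev (F := F) j ≠ 0 := fun h => by simpa [ev] using congrFun h j

theorem cong_sv_ev (A : GL (Fin n) F) (c : F) (j : Fin n) : cong A (sv c (ev j)) = sv c (A.1 *ᵥ ev j) :=
  cong_sv A c _

theorem gen_E {φ : V} {c₀ : F} {j0 : Fin n} (hφ : φ ∈ E ρ ψ (sv c₀ (ev j0))) (A : GL (Fin n) F) :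
    ρ (lv A) φ ∈ E ρ ψ (sv c₀ (A.1 *ᵥ ev j0)) := by
  have := lv_mem hφ A
  rwa [cong_sv] at this

/-- A matrix moving a unit vector to a given one, commuting with a coordinate Fourier element. -/
theorem exists_move {i j : Fin n} (hij : i ≠ j) (v : Fin n → F) (hv : v j ≠ 0) :
    ∃ A : GL (Fin n) F, A.1 *ᵥ ev j = Function.update v i 0 ∧ A.1 *ᵥ ev i = ev i ∧
      A.1 * Matrix.single i i 1 = Matrix.single i i 1 ∧ Matrix.single i i 1 * A.1 = Matrix.single i i 1 := by
  let u : Fin n → F := Function.update v i 0 - ev j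
  have huj : 1 + u j = v j := by simp [u, hij.symm]
  have hui : u i = 0 := by simp [u, hij]
  have hne : 1 + u j ≠ 0 := huj ▸ hv
  let X := Matrix.vecMulVec u (ev j)
  have hXX : X * X = u j • X := by
    simp only [X, Matrix.vecMulVec_mul_vecMulVec]
    rw [Matrix.vecMulVec_smul]
    simp
  let r : F := -(1 + u j)⁻¹
  have h1 : (1 + X) * (1 + r • X) = 1 := by
    rw [Matrix.add_mul, Matrix.one_mul, Matrix.mul_add, Matrix.mul_one, Matrix.mul_smul, hXX, smul_smul]
    have : r + 1 + r * u j = 0 := by simp only [r]; field_simp; ring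
    calc (1 : Matrix (Fin n) (Fin n) F) + r • X + (X + (r * u j) • X) = 1 + (r + 1 + r * u j) • X := by
          rw [add_smul, add_smul, one_smul]; abel
      _ = 1 := by rw [this, zero_smul, add_zero]
  refine ⟨⟨1 + X, 1 + r • X, h1, mul_eq_one_comm.1 h1⟩, ?_, ?_, ?_, ?_⟩
  · funext k
    simp [X, u, ev, Matrix.one_apply, Matrix.vecMulVec_apply, Pi.single_apply]
  · funext k
    simp [X, ev, Matrix.one_apply, Matrix.vecMulVec_apply, Pi.single_apply, hij]
  · ext a b
    by_cases hb : b = i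
    · subst hb; simp [X, Matrix.add_apply, Matrix.vecMulVec_apply, ev, hij, Matrix.single_apply, Matrix.one_apply, eq_comm]
    · simp [Ne.symm hb, hb]
  · ext a b
    by_cases ha : a = i
    · subst ha; simp [X, Matrix.add_apply, Matrix.vecMulVec_apply, hui, Matrix.single_apply, Matrix.one_apply]
    · simp [Ne.symm ha, ha]

variable (h2 : (2 : F) ≠ 0) (hψ : ψ ≠ 1)
include h2 hψ

theorem P_mem_Y {φ : V} {c₀ : F} {j0 : Fin n} (hφ : φ ∈ E ρ ψ (sv c₀ (ev j0))) {y : V} (hy : y ∈ Ysp ρ φ)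
    (S : SymM n F) : P ρ ψ S y ∈ Ysp ρ φ := by
  induction hy using Submodule.span_induction with
  | mem x hx =>
    obtain ⟨B, rfl⟩ := hx
    rw [P_of_mem h2 hψ (gen_E hφ B)]
    split_ifs
    · exact gen_mem_Y φ B
    · exact zero_mem _
  | zero => simp
  | add x y _ _ hx hy => rw [map_add]; exact add_mem hx hy
  | smul a x _ hx => rw [map_smul]; exact Submodule.smul_mem _ a hx

theorem P_smul_uS (S X : SymM n F) (v : V) :
    P ρ ψ S (ρ (uS X) v) = ψ (S.1 * X.1).trace • P ρ ψ S v := by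
  conv_lhs => rw [← sum_P (ρ := ρ) h2 hψ v, map_sum, map_sum]
  rw [Finset.sum_eq_single S]
  · rw [mem_E.1 (P_mem S _), map_smul, P_self h2 hψ (P_mem S _)]
  · intro S' _ hS'
    rw [mem_E.1 (P_mem S' _), map_smul, P_of_mem h2 hψ (P_mem S' _), if_neg hS'.symm, smul_zero]
  · simp

variable (hr : LowRank ρ ψ) {c₀ : F} (hc₀ : c₀ ≠ 0) {j0 : Fin n} {φ : V} (hφ : φ ∈ E ρ ψ (sv c₀ (ev j0)))
include hr hc₀ hφ

theorem w_gen {i j : Fin n} (hij : i ≠ j) (A : GL (Fin n) F) (hv : (A.1 *ᵥ ev j0) j ≠ 0) :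
    ρ (wS {i}) (ρ (lv A) φ) ∈ Zsp ρ φ j0 j := by
  set v := A.1 *ᵥ ev j0 with hvd
  obtain ⟨A', hA1, hA2, hc, hrw⟩ := exists_move hij v hv
  set h := hG i j hij (v i) with hh
  have hmove : (A' * h).1 *ᵥ ev j = v := by
    rw [Units.val_mul, ← Matrix.mulVec_mulVec, hG_mulVec, Matrix.mulVec_add, Matrix.mulVec_smul, hA1, hA2]
    funext k
    rcases eq_or_ne k i with rfl | hk <;> simp [*]
  set B := (A' * h)⁻¹ * A with hB
  have hBv : B.1 *ᵥ ev j0 = ev j := by
    rw [hB, Units.val_mul, ← Matrix.mulVec_mulVec]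
    exact inv_mulVec hmove
  have hm : ρ (lv B) φ ∈ E ρ ψ (sv c₀ (ev j)) := by
    have := gen_E hφ B
    rwa [hBv] at this
  obtain ⟨κ, -, hκ⟩ := (block h2 hψ hr hij hc₀).1
  have e : ρ (wS {i}) (ρ (lv A) φ) = ρ (lv A') (ρ (uS (symN i j (-(v i)))) (ρ (wS {i}) (ρ (lv B) φ))) := by
    rw [show A = A' * h * B by rw [hB, mul_inv_cancel_left], map_mul, map_mul, map_mul, map_mul,
      Module.End.mul_apply, Module.End.mul_apply, ← Module.End.mul_apply (ρ (wS {i})), ← map_mul,
      w_lv_comm i A' hc hrw, map_mul, Module.End.mul_apply, ← Module.End.mul_apply (ρ (wS {i})), ← map_mul,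
      w_hG, map_mul, Module.End.mul_apply]
  rw [e, hκ _ hm, map_smul, map_smul, map_sum, map_sum]
  refine Submodule.smul_mem _ _ (Submodule.sum_mem _ fun t _ => ?_)
  rw [mem_E.1 (hG_mem h2 hψ hij hm t), map_smul, ← Module.End.mul_apply (ρ (lv A')), ← map_mul, ← map_mul,
    ← Module.End.mul_apply (ρ (lv (A' * _))), ← map_mul, ← map_mul]
  refine Submodule.smul_mem _ _ (Submodule.subset_span ⟨_, ?_, rfl⟩)
  show ((A' * hG i j hij t * B).1 *ᵥ ev j0) j ≠ 0
  rw [Units.val_mul, ← Matrix.mulVec_mulVec, hBv, Units.val_mul, ← Matrix.mulVec_mulVec, hG_mulVec,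
    Matrix.mulVec_add, Matrix.mulVec_smul, hA1, hA2]
  simp [hij.symm, hv]

theorem w_Z {i j : Fin n} (hij : i ≠ j) {x : V} (hx : x ∈ Zsp ρ φ j0 j) : ρ (wS {i}) x ∈ Zsp ρ φ j0 j := by
  induction hx using Submodule.span_induction with
  | mem y hy =>
    obtain ⟨A, hA, rfl⟩ := hy
    exact w_gen h2 hψ hr hc₀ hφ hij A hA
  | zero => simp
  | add x y _ _ hx hy => rw [map_add]; exact add_mem hx hy
  | smul a x _ hx => rw [map_smul]; exact Submodule.smul_mem _ a hx

theorem wS_Z {s : Finset (Fin n)} {j : Fin n} (hj : j ∉ s) {x : V} (hx : x ∈ Zsp ρ φ j0 j) :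
    ρ (wS s) x ∈ Zsp ρ φ j0 j := by
  induction s using Finset.induction_on with
  | empty => simpa [wS_empty] using hx
  | @insert k s hks ih =>
    rw [Finset.mem_insert, not_or] at hj
    rw [wS_insert hks, map_mul, Module.End.mul_apply]
    exact w_Z h2 hψ hr hc₀ hφ (Ne.symm hj.1) (ih hj.2)

/-- The nonzero part of a vector lies in the span of the Levi translates. -/
def InX (ρ : Representation ℂ (SpG n F) V) (ψ : AddChar F ℂ) (φ : V) (x : V) : Prop :=
  ∀ S : SymM n F, S ≠ 0 → P ρ ψ S x ∈ Ysp ρ φ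

theorem inX_Y {x : V} (hx : x ∈ Ysp ρ φ) : InX ρ ψ φ x := fun S _ => P_mem_Y h2 hψ hφ hx S

theorem single_inX {i : Fin n} (hn : ∃ k : Fin n, k ≠ i) (A : GL (Fin n) F) :
    InX ρ ψ φ (ρ (wS {i}) (ρ (lv A) φ)) := by
  set v := A.1 *ᵥ ev j0 with hvd
  by_cases hother : ∃ j, j ≠ i ∧ v j ≠ 0
  · obtain ⟨j, hji, hvj⟩ := hother
    exact inX_Y h2 hψ hr hc₀ hφ (Zsp_le φ j0 j (w_gen h2 hψ hr hc₀ hφ hji.symm A hvj))
  push Not at hother
  obtain ⟨j, hji⟩ := hn
  have hv : v = v i • ev i := by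
    funext k
    rcases eq_or_ne k i with rfl | hk
    · simp
    · simp [hk, hother k hk]
  have hvi : v i ≠ 0 := fun h => GL_mulVec_ne A (ev_ne j0) (by rw [← hvd, hv, h, zero_smul])
  set x := ρ (lv A) φ with hxd
  set c := c₀ * v i * v i with hcd
  have hcne : c ≠ 0 := mul_ne_zero (mul_ne_zero hc₀ hvi) hvi
  have hxc : x ∈ E ρ ψ (sv c (ev i)) := by
    have := gen_E hφ A
    rwa [← hvd, hv, sv_smul] at this
  intro S hS
  by_cases hr0 : P ρ ψ S (ρ (wS {i}) x) = 0
  · rw [hr0]; exact zero_mem _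
  have shape0 : ∀ S' : SymM n F, P ρ ψ S' (ρ (wS {i}) x) ≠ 0 → S' = sv (S'.1 i i) (ev i) := by
    intro S' hS'
    obtain ⟨b, u, rfl⟩ := exists_sv hr (P_mem S' _) hS'
    refine Subtype.ext (Matrix.ext fun k l => ?_)
    have h0 : ∀ k l, k ≠ i → l ≠ i → b * (u k * u l) = 0 := fun k l hk hl => by
      have := entries_agree h2 hψ i hxc hS' hk hl
      simpa [sv_apply, hk, hl] using this
    by_cases hk : k = i <;> by_cases hl : l = i
    · subst hk; subst hl; simp [sv_apply]
    · have := h0 l l hl hl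
      simp at this
      rcases this with h | h <;> simp [sv_apply, hl, h]
    · have := h0 k k hk hk
      simp at this
      rcases this with h | h <;> simp [sv_apply, hk, h]
    · simp [sv_apply, hk, hl, h0 k l hk hl]
  have hSe := shape0 S hr0
  have hc' : S.1 i i ≠ 0 := fun h => hS (by
    rw [h] at hSe
    rw [hSe]
    exact Subtype.ext (by simp [sv]))
  set c' := S.1 i i with hc'd
  set r := P ρ ψ S (ρ (wS {i}) x) with hrd
  have hrE : r ∈ E ρ ψ (sv c' (ev i)) := hSe ▸ P_mem S _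
  set T := sv c' (ev i + ev j) with hTd
  obtain ⟨κ, hκ0, hκ⟩ := (block h2 hψ hr hji hc').1
  obtain ⟨κ1, -, hκ1⟩ := (block h2 hψ hr hji hcne).1
  have hone : ev (F := F) i + ev j = (hG j i hji 1).1 *ᵥ ev i := by rw [hG_mulVec, one_smul]
  have hA : P ρ ψ T (ρ (wS {j}) (ρ (wS {i}) x)) = κ • ρ (lv (hG j i hji 1)) r := by
    conv_lhs => rw [← sum_P (ρ := ρ) h2 hψ (ρ (wS {i}) x), map_sum, map_sum]
    rw [Finset.sum_eq_single S]
    · rw [hκ r hrE, map_smul, map_sum, Finset.sum_eq_single (1 : F)]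
      · rw [P_of_mem h2 hψ (hG_mem h2 hψ hji hrE 1), if_pos (by rw [hTd, one_smul])]
      · intro t _ ht
        rw [P_of_mem h2 hψ (hG_mem h2 hψ hji hrE t), if_neg]
        intro h
        have := congrFun (congrFun (congrArg Subtype.val h) j) i
        simp [hTd, sv_apply, hji, hji.symm, hc'] at this
        exact ht (by simpa [eq_comm] using this)
      · simp
    · intro S' _ hne
      by_contra hne0
      have hS'0 : P ρ ψ S' (ρ (wS {i}) x) ≠ 0 := fun h => hne0 (by rw [h, map_zero, map_zero])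
      have := entries_agree h2 hψ j (P_mem S' _) hne0 hji.symm hji.symm (k := i) (l := i)
      simp [hTd, sv_apply, hji.symm] at this
      apply hne
      rw [shape0 S' hS'0, ← this, ← hSe]
    · simp
  have hB : P ρ ψ T (ρ (wS {i}) (ρ (wS {j}) x)) ∈ Ysp ρ φ := by
    rw [hκ1 x hxc, map_smul, map_smul, map_sum, map_sum]
    refine Submodule.smul_mem _ _ (Submodule.sum_mem _ fun t _ => ?_)
    rcases eq_or_ne t 0 with rfl | ht
    · rw [hG_zero, map_one, map_one, Module.End.one_apply]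
      by_contra hne
      have h0 : P ρ ψ T (ρ (wS {i}) x) ≠ 0 := fun h => hne (by rw [h]; exact zero_mem _)
      have := entries_agree h2 hψ i hxc h0 hji hji
      simp [hTd, sv_apply, hji, hc'] at this
    · refine P_mem_Y h2 hψ hφ (Zsp_le φ j0 j ?_) T
      rw [hxd, ← Module.End.mul_apply (ρ (lv (hG j i hji t))), ← map_mul, ← map_mul]
      refine w_gen h2 hψ hr hc₀ hφ hji.symm _ ?_
      rw [Units.val_mul, ← Matrix.mulVec_mulVec, ← hvd, hv, Matrix.mulVec_smul, hG_mulVec]
      simp [hji, hvi, ht]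
  rw [← Module.End.mul_apply (ρ (wS {j})), ← map_mul, wS_comm, map_mul, Module.End.mul_apply] at hA
  rw [hA] at hB
  have := lv_mem_Y (Submodule.smul_mem _ κ⁻¹ hB) (hG j i hji 1)⁻¹
  rwa [smul_smul, inv_mul_cancel₀ hκ0, one_smul, ← Module.End.mul_apply, ← map_mul, ← map_mul, inv_mul_cancel,
    map_one, map_one, Module.End.one_apply] at this

theorem wS_inX [Nontrivial (Fin n)] (s : Finset (Fin n)) {y : V} (hy : y ∈ Ysp ρ φ) :
    InX ρ ψ φ (ρ (wS s) y) := by
  induction hy using Submodule.span_induction with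
  | zero => intro S _; simp
  | add x y _ _ hx hy => intro S hS; rw [map_add, map_add]; exact add_mem (hx S hS) (hy S hS)
  | smul a x _ hx => intro S hS; rw [map_smul, map_smul]; exact Submodule.smul_mem _ a (hx S hS)
  | mem x hx =>
    obtain ⟨A, rfl⟩ := hx
    by_cases h : ∃ i ∈ s, (A.1 *ᵥ ev j0) i ≠ 0
    · obtain ⟨i, his, hi⟩ := h
      have hZ := wS_Z h2 hψ hr hc₀ hφ (Finset.notMem_erase i s)
        (Submodule.subset_span ⟨A, hi, rfl⟩ : ρ (lv A) φ ∈ Zsp ρ φ j0 i)
      rw [← Finset.insert_erase his, wS_insert (Finset.notMem_erase i s), map_mul, Module.End.mul_apply]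
      clear hi
      generalize ρ (wS (s.erase i)) (ρ (lv A) φ) = z at hZ ⊢
      induction hZ using Submodule.span_induction with
      | mem w hw =>
        obtain ⟨B, -, rfl⟩ := hw
        exact single_inX h2 hψ hr hc₀ hφ (exists_ne i) B
      | zero => intro S _; simp
      | add x y _ _ hx hy => intro S hS; rw [map_add, map_add]; exact add_mem (hx S hS) (hy S hS)
      | smul a x _ hx => intro S hS; rw [map_smul, map_smul]; exact Submodule.smul_mem _ a (hx S hS)
    · push Not at h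
      obtain ⟨l, hl⟩ := Function.ne_iff.1 (GL_mulVec_ne A (ev_ne j0))
      exact inX_Y h2 hψ hr hc₀ hφ (Zsp_le φ j0 l (wS_Z h2 hψ hr hc₀ hφ (fun hls => hl (h l hls))
        (Submodule.subset_span ⟨A, hl, rfl⟩)))

theorem uS_mem_Y {y : V} (hy : y ∈ Ysp ρ φ) (X : SymM n F) : ρ (uS X) y ∈ Ysp ρ φ := by
  induction hy using Submodule.span_induction with
  | mem x hx =>
    obtain ⟨B, rfl⟩ := hx
    rw [mem_E.1 (gen_E hφ B)]
    exact Submodule.smul_mem _ _ (gen_mem_Y φ B)
  | zero => simp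
  | add x y _ _ hx hy => rw [map_add]; exact add_mem hx hy
  | smul a x _ hx => rw [map_smul]; exact Submodule.smul_mem _ a hx

theorem orbit_inX [Nontrivial (Fin n)] (g : SpG n F) : InX ρ ψ φ (ρ g φ) := by
  obtain ⟨A₁, A₂, X₁, X₂, s, rfl⟩ := exists_decomp g
  have h1 : ρ (uS X₂) (ρ (lv A₂) φ) ∈ Ysp ρ φ := uS_mem_Y h2 hψ hr hc₀ hφ (gen_mem_Y φ A₂) X₂
  intro S hS
  have hS' : cong A₁ (cong A₁⁻¹ S) = S := by rw [cong_cong, mul_inv_cancel, cong_one]
  have hne : cong A₁⁻¹ S ≠ 0 := fun h => hS (by rw [← hS', h]; exact Subtype.ext (by simp [cong]))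
  rw [map_mul, map_mul, map_mul, map_mul, Module.End.mul_apply, Module.End.mul_apply, Module.End.mul_apply,
    Module.End.mul_apply, ← hS', P_lv h2 hψ, P_smul_uS h2 hψ]
  exact lv_mem_Y (Submodule.smul_mem _ _ (wS_inX h2 hψ hr hc₀ hφ s h1 _ hne)) A₁

theorem core [Nontrivial (Fin n)] {ε : ℂ} (hz : ∀ v, ρ (lv (-1)) v = ε • v) (g : SpG n F) :
    P ρ ψ (sv c₀ (ev j0)) (ρ g φ) ∈ Submodule.span ℂ ({φ} : Set V) := by
  set S₀ := sv c₀ (ev (F := F) j0) with hS₀d
  have hS₀ : S₀ ≠ 0 := fun h => hc₀ (by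
    simpa [hS₀d, sv_apply] using congrFun (congrFun (congrArg Subtype.val h) j0) j0)
  have hY := orbit_inX h2 hψ hr hc₀ hφ g S₀ hS₀
  rw [← P_self h2 hψ (P_mem S₀ (ρ g φ))]
  generalize P ρ ψ S₀ (ρ g φ) = y at hY ⊢
  induction hY using Submodule.span_induction with
  | mem x hx =>
    obtain ⟨A, rfl⟩ := hx
    rw [P_of_mem h2 hψ (gen_E hφ A)]
    split_ifs with h
    · set v := A.1 *ᵥ ev j0 with hvd
      have he : ∀ k l, ev (F := F) j0 k * ev j0 l = v k * v l := fun k l => by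
        have := congrFun (congrFun (congrArg Subtype.val h) k) l
        simpa [hS₀d, sv_apply, hc₀] using this
      have hjj : v j0 * v j0 = 1 := by simpa using (he j0 j0).symm
      have hk : ∀ k, k ≠ j0 → v k = 0 := fun k hk => by simpa [hk] using (he k k).symm
      rcases mul_self_eq_one_iff.1 hjj with h1 | h1
      · have : v = ev j0 := by
          funext k
          by_cases hkj : k = j0
          · subst hkj; simp [h1]
          · simp [hkj, hk k hkj]
        obtain ⟨γ, hγ⟩ := stab_scalar h2 hψ hr hc₀ A this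
        rw [hγ φ hφ]
        exact Submodule.smul_mem _ _ (Submodule.mem_span_singleton_self φ)
      · have : (-A).1 *ᵥ ev j0 = ev j0 := by
          rw [Units.val_neg, Matrix.neg_mulVec, ← hvd]
          funext k
          by_cases hkj : k = j0
          · subst hkj; simp [h1]
          · simp [hkj, hk k hkj]
        obtain ⟨γ, hγ⟩ := stab_scalar h2 hψ hr hc₀ _ this
        rw [show A = (-1) * (-A) by rw [neg_one_mul, neg_neg], map_mul, map_mul, Module.End.mul_apply, hγ φ hφ,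
          map_smul, hz, smul_smul]
        exact Submodule.smul_mem _ _ (Submodule.mem_span_singleton_self φ)
    · exact zero_mem _
  | zero => simp
  | add x y _ _ hx hy => rw [map_add]; exact add_mem hx hy
  | smul a x _ hx => rw [map_smul]; exact Submodule.smul_mem _ a hx

end Cfsg.Agent.WeilFour
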