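import Cfsg.Agent.Weil.Elems

/-!
Elements of the symplectic group used for the representations of rank one: the unipotent radical and the Levi
part of the Siegel parabolic, the partial Fourier elements, and the double coset decomposition.
-/

set_option autoImplicit false
set_option linter.unusedSectionVars false

namespace Cfsg.Agent.WeilFour

open Matrix Cfsg.Agent.Weil

variable {F : Type*} [Field F] {n : ℕ}

/-- The symplectic group. -/
abbrev SpG (n : ℕ) (F : Type*) [Field F] := ↥(Matrix.symplecticGroup (Fin n) F)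

/-- Symmetric matrices, as an additive group. -/
def symSub (n : ℕ) (F : Type*) [Field F] : AddSubgroup (Matrix (Fin n) (Fin n) F) where
  carrier := {X | X.IsSymm}
  add_mem' hX hY := hX.add hY
  zero_mem' := Matrix.isSymm_zero
  neg_mem' hX := hX.neg

/-- The type of symmetric matrices. -/
abbrev SymM (n : ℕ) (F : Type*) [Field F] := ↥(symSub n F)

/-- The unipotent radical of the Siegel parabolic. -/
def uS (X : SymM n F) : SpG n F := lowU X.1 X.2

theorem uS_add (X Y : SymM n F) : uS (X + Y) = uS X * uS Y := (lowU_mul X.1 Y.1 X.2 Y.2).symm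

theorem coe_uS (X : SymM n F) : (uS X : Matrix (Fin n ⊕ Fin n) (Fin n ⊕ Fin n) F) =
    Matrix.fromBlocks 1 0 X.1 1 := rfl

theorem uS_zero : uS (0 : SymM n F) = 1 := by
  apply Subtype.ext
  simp [coe_uS, Matrix.fromBlocks_one]

/-- The Levi part of the Siegel parabolic. -/
def lv : GL (Fin n) F →* SpG n F where
  toFun A := levi A.1 (A⁻¹).1 A.mul_inv
  map_one' := by
    apply Subtype.ext
    simp [coe_levi, Matrix.fromBlocks_one]
  map_mul' A B := by
    apply Subtype.ext
    simp [coe_levi, Matrix.fromBlocks_multiply, Matrix.transpose_mul]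

theorem coe_lv (A : GL (Fin n) F) : (lv A : Matrix (Fin n ⊕ Fin n) (Fin n ⊕ Fin n) F) =
    Matrix.fromBlocks A.1 0 0 ((A⁻¹).1)ᵀ := rfl

/-- `A X Aᵀ` on symmetric matrices. -/
def cong (A : GL (Fin n) F) (X : SymM n F) : SymM n F :=
  ⟨A.1 * X.1 * A.1ᵀ, by
    show Matrix.IsSymm _
    have h : X.1ᵀ = X.1 := X.2
    simp [Matrix.IsSymm, Matrix.transpose_mul, h, Matrix.mul_assoc]⟩

/-- `Aᵀ X A` on symmetric matrices. -/
def congT (A : GL (Fin n) F) (X : SymM n F) : SymM n F :=
  ⟨A.1ᵀ * X.1 * A.1, by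
    show Matrix.IsSymm _
    have h : X.1ᵀ = X.1 := X.2
    simp [Matrix.IsSymm, Matrix.transpose_mul, h, Matrix.mul_assoc]⟩

theorem uS_mul_lv (X : SymM n F) (A : GL (Fin n) F) : uS X * lv A = lv A * uS (congT A X) := by
  apply Subtype.ext
  have h : ((A⁻¹).1)ᵀ * A.1ᵀ = 1 := by rw [← Matrix.transpose_mul, A.mul_inv, Matrix.transpose_one]
  simp only [Submonoid.coe_mul, coe_uS, congT, coe_lv, Matrix.fromBlocks_multiply, ← Matrix.mul_assoc, h]
  simp

/-- A matrix with four diagonal blocks. -/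
def bd (a b c d : Fin n → F) : Matrix (Fin n ⊕ Fin n) (Fin n ⊕ Fin n) F :=
  Matrix.fromBlocks (Matrix.diagonal a) (Matrix.diagonal b) (Matrix.diagonal c) (Matrix.diagonal d)

theorem bd_mul (a b c d a' b' c' d' : Fin n → F) :
    bd a b c d * bd a' b' c' d' =
      bd (a * a' + b * c') (a * b' + b * d') (c * a' + d * c') (c * b' + d * d') := by
  simp [bd, Matrix.fromBlocks_multiply, Matrix.diagonal_mul_diagonal', Matrix.diagonal_add]

theorem bd_one : bd (1 : Fin n → F) 0 0 1 = 1 := by
  simp [bd, Matrix.fromBlocks_one]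

theorem bd_ext {a b c d a' b' c' d' : Fin n → F}
    (h : ∀ k, a k = a' k ∧ b k = b' k ∧ c k = c' k ∧ d k = d' k) : bd a b c d = bd a' b' c' d' := by
  rw [funext fun k => (h k).1, funext fun k => (h k).2.1, funext fun k => (h k).2.2.1,
    funext fun k => (h k).2.2.2]

variable [DecidableEq F]

/-- The indicator of a finset. -/
def ind (s : Finset (Fin n)) : Fin n → F := fun k => if k ∈ s then 1 else 0

theorem ind_mul_self (s : Finset (Fin n)) : (ind s : Fin n → F) * ind s = ind s := by
  funext k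
  simp only [Pi.mul_apply, ind]
  split_ifs <;> simp

/-- The partial Fourier element exchanging the coordinates in `s`. -/
def wS (s : Finset (Fin n)) : SpG n F :=
  ⟨bd (1 - ind s) (ind s) (-ind s) (1 - ind s), by
    rw [SymplecticGroup.mem_iff, Matrix.J, bd, Matrix.fromBlocks_transpose, Matrix.fromBlocks_multiply,
      Matrix.fromBlocks_multiply]
    simp only [Matrix.diagonal_transpose, ← Matrix.diagonal_neg, Matrix.mul_neg, Matrix.mul_one, Matrix.mul_zero,
      zero_add, add_zero, Matrix.diagonal_mul_diagonal', Matrix.neg_mul, Matrix.diagonal_add,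
      Matrix.fromBlocks_inj]
    refine ⟨?_, ?_, ?_, ?_⟩ <;>
    · ext a b
      rcases eq_or_ne a b with rfl | h
      · by_cases ha : a ∈ s <;> simp [ind, ha]
      · simp [h]⟩

theorem coe_wS (s : Finset (Fin n)) : ((wS s : SpG n F) : Matrix (Fin n ⊕ Fin n) (Fin n ⊕ Fin n) F) =
    bd (1 - ind s) (ind s) (-ind s) (1 - ind s) := rfl

theorem wS_empty : (wS ∅ : SpG n F) = 1 := by
  apply Subtype.ext
  rw [coe_wS, Submonoid.coe_one, ← bd_one]
  exact bd_ext fun k => by simp [ind]

theorem wS_union {s t : Finset (Fin n)} (h : Disjoint s t) : (wS (s ∪ t) : SpG n F) = wS s * wS t := by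
  apply Subtype.ext
  rw [Submonoid.coe_mul, coe_wS, coe_wS, coe_wS, bd_mul]
  refine bd_ext fun k => ?_
  by_cases hs : k ∈ s
  · have ht : k ∉ t := Finset.disjoint_left.1 h hs
    simp [ind, hs, ht]
  · by_cases ht : k ∈ t <;> simp [ind, hs, ht]

theorem wS_insert {s : Finset (Fin n)} {i : Fin n} (h : i ∉ s) :
    (wS (insert i s) : SpG n F) = wS {i} * wS s := by
  rw [← wS_union (Finset.disjoint_singleton_left.2 h), Finset.singleton_union]

theorem wS_comm (i j : Fin n) : (wS {i} : SpG n F) * wS {j} = wS {j} * wS {i} := by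
  rcases eq_or_ne i j with rfl | h
  · rfl
  · rw [← wS_union (Finset.disjoint_singleton.2 h), ← wS_union (Finset.disjoint_singleton.2 h.symm),
      Finset.union_comm]

theorem diag_ind_single (i : Fin n) :
    Matrix.diagonal (ind {i} : Fin n → F) = Matrix.single i i 1 := by
  ext a b
  rcases eq_or_ne a b with rfl | h
  · by_cases ha : a = i
    · subst ha; simp [ind]
    · simp [ind, ha, Ne.symm ha]
  · simp only [Matrix.diagonal_apply_ne _ h, Matrix.single_apply]
    rw [if_neg fun e => h (e.1.symm.trans e.2)]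

theorem coe_wS_single (i : Fin n) : ((wS {i} : SpG n F) : Matrix (Fin n ⊕ Fin n) (Fin n ⊕ Fin n) F) =
    Matrix.fromBlocks (1 - Matrix.single i i 1) (Matrix.single i i 1) (-Matrix.single i i 1)
      (1 - Matrix.single i i 1) := by
  have h1 : Matrix.diagonal (1 - (ind {i} : Fin n → F)) = 1 - Matrix.single i i 1 := by
    rw [← diag_ind_single, ← Matrix.diagonal_one, Matrix.diagonal_sub]; rfl
  have h2 : Matrix.diagonal (-(ind {i} : Fin n → F)) = -Matrix.single i i 1 := by
    rw [← diag_ind_single, Matrix.diagonal_neg]; rfl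
  rw [coe_wS, bd, h1, h2, diag_ind_single]

theorem w_uS_comm (i : Fin n) (X : SymM n F) (hX : ∀ k, X.1 i k = 0) :
    wS {i} * uS X = uS X * wS {i} := by
  have hl : Matrix.single i i (1 : F) * X.1 = 0 := by
    ext a b
    by_cases ha : a = i
    · subst ha; simp [hX]
    · simp [ha]
  have hr : X.1 * Matrix.single i i (1 : F) = 0 := by
    have := congrArg Matrix.transpose hl
    rwa [Matrix.transpose_mul, Matrix.transpose_single, X.2, Matrix.transpose_zero] at this
  apply Subtype.ext
  simp only [Submonoid.coe_mul, coe_uS, coe_wS_single, Matrix.fromBlocks_multiply]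
  simp [Matrix.mul_sub, Matrix.sub_mul, hl, hr]
  abel

theorem w_lv_comm (i : Fin n) (A : GL (Fin n) F) (hc : A.1 * Matrix.single i i 1 = Matrix.single i i 1)
    (hr : Matrix.single i i 1 * A.1 = Matrix.single i i 1) : wS {i} * lv A = lv A * wS {i} := by
  have hc' : (A⁻¹).1 * Matrix.single i i 1 = Matrix.single i i 1 := by
    conv_lhs => rw [← hc, ← Matrix.mul_assoc, A.inv_mul, Matrix.one_mul]
  have hr' : Matrix.single i i 1 * (A⁻¹).1 = Matrix.single i i 1 := by
    conv_lhs => rw [← hr, Matrix.mul_assoc, A.mul_inv, Matrix.mul_one]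
  have hcT : ((A⁻¹).1)ᵀ * Matrix.single i i 1 = Matrix.single i i 1 := by
    have := congrArg Matrix.transpose hr'
    rwa [Matrix.transpose_mul, Matrix.transpose_single] at this
  have hrT : Matrix.single i i 1 * ((A⁻¹).1)ᵀ = Matrix.single i i 1 := by
    have := congrArg Matrix.transpose hc'
    rwa [Matrix.transpose_mul, Matrix.transpose_single] at this
  apply Subtype.ext
  simp only [Submonoid.coe_mul, coe_lv, coe_wS_single, Matrix.fromBlocks_multiply, Matrix.mul_sub, Matrix.sub_mul,
    Matrix.one_mul, Matrix.mul_one, Matrix.mul_zero, Matrix.zero_mul, Matrix.neg_mul, Matrix.mul_neg, hc, hr, hcT,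
    hrT, add_zero, zero_add, sub_zero, neg_zero]

/-- A shear `e j ↦ e j + t • e i`. -/
def hG (i j : Fin n) (hij : i ≠ j) (t : F) : GL (Fin n) F :=
  ⟨Matrix.transvection i j t, Matrix.transvection i j (-t),
    by rw [Matrix.transvection_mul_transvection_same _ _ hij, add_neg_cancel, Matrix.transvection_zero],
    by rw [Matrix.transvection_mul_transvection_same _ _ hij, neg_add_cancel, Matrix.transvection_zero]⟩

theorem coe_hG (i j : Fin n) (hij : i ≠ j) (t : F) :
    (hG i j hij t).1 = Matrix.transvection i j t := rfl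

theorem coe_inv_hG (i j : Fin n) (hij : i ≠ j) (t : F) :
    ((hG i j hij t)⁻¹).1 = Matrix.transvection i j (-t) := rfl

/-- The symmetric matrix with `t` at `(i, j)` and `(j, i)`. -/
def symN (i j : Fin n) (t : F) : SymM n F :=
  ⟨Matrix.single i j t + Matrix.single j i t, by
    show Matrix.IsSymm _
    simp [Matrix.IsSymm, add_comm]⟩

/-- The symmetric matrix with `a` at `(i, i)`. -/
def symD (i : Fin n) (a : F) : SymM n F :=
  ⟨Matrix.diagonal (Pi.single i a), Matrix.isSymm_diagonal _⟩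

theorem w_hG (i j : Fin n) (hij : i ≠ j) (t : F) :
    wS {i} * lv (hG i j hij t) = uS (symN i j (-t)) * wS {i} := by
  apply Subtype.ext
  simp only [Submonoid.coe_mul, coe_uS, symN, coe_lv, coe_hG, coe_inv_hG, coe_wS_single,
    Matrix.fromBlocks_multiply, Matrix.transvection, Matrix.transpose_add, Matrix.transpose_one,
    Matrix.transpose_single]
  rw [Matrix.fromBlocks_inj]
  refine ⟨?_, ?_, ?_, ?_⟩ <;>
    simp [Matrix.mul_add, Matrix.add_mul, Matrix.sub_mul, Matrix.mul_sub, Matrix.single_mul_single_of_ne, hij,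
      hij.symm, Matrix.single_neg] <;>
    abel

theorem w_symN (i j : Fin n) (hij : i ≠ j) (t : F) :
    wS {i} * uS (symN i j t) = lv (hG i j hij t) * wS {i} := by
  apply Subtype.ext
  simp only [Submonoid.coe_mul, coe_uS, symN, coe_lv, coe_hG, coe_inv_hG, coe_wS_single,
    Matrix.fromBlocks_multiply, Matrix.transvection, Matrix.transpose_add, Matrix.transpose_one,
    Matrix.transpose_single]
  rw [Matrix.fromBlocks_inj]
  refine ⟨?_, ?_, ?_, ?_⟩ <;>
    simp [Matrix.mul_add, Matrix.add_mul, Matrix.sub_mul, Matrix.mul_sub, Matrix.single_mul_single_of_ne, hij,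
      hij.symm, Matrix.single_neg] <;>
    abel

/-- A diagonal element of the linear group. -/
def dG (i : Fin n) (l : F) (hl : l ≠ 0) : GL (Fin n) F :=
  ⟨Matrix.diagonal (Function.update 1 i l), Matrix.diagonal (Function.update 1 i l⁻¹),
    by
      rw [Matrix.diagonal_mul_diagonal', ← Matrix.diagonal_one]
      congr 1
      funext k
      rcases eq_or_ne k i with rfl | h
      · simp [hl]
      · simp [h],
    by
      rw [Matrix.diagonal_mul_diagonal', ← Matrix.diagonal_one]
      congr 1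
      funext k
      rcases eq_or_ne k i with rfl | h
      · simp [hl]
      · simp [h]⟩

theorem lv_dG (i : Fin n) (l : F) (hl : l ≠ 0) : lv (dG i l hl) =
    (wS {i} * uS (symD i (-l))) * (wS {i} * uS (symD i (-l⁻¹))) * (wS {i} * uS (symD i (-l))) := by
  apply Subtype.ext
  have hu : ∀ a : F, ((uS (symD i a) : SpG n F) : Matrix (Fin n ⊕ Fin n) (Fin n ⊕ Fin n) F) =
      bd 1 0 (Pi.single i a) 1 := fun a => by simp [coe_uS, symD, bd]
  have hd : ((lv (dG i l hl) : SpG n F) : Matrix (Fin n ⊕ Fin n) (Fin n ⊕ Fin n) F) =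
      bd (Function.update 1 i l) 0 0 (Function.update 1 i l⁻¹) := by
    simp [coe_lv, dG, bd, Units.inv_mk]
  simp only [Submonoid.coe_mul, hu, hd, coe_wS, bd_mul]
  refine bd_ext fun k => ?_
  rcases eq_or_ne k i with rfl | h
  · simp [ind]
    field_simp
    simp
  · simp [ind, h]

theorem w_sq (i : Fin n) : (wS {i} : SpG n F) * wS {i} = lv (dG i (-1) (by simp)) := by
  apply Subtype.ext
  have hd : ((lv (dG i (-1 : F) (by simp)) : SpG n F) : Matrix (Fin n ⊕ Fin n) (Fin n ⊕ Fin n) F) =
      bd (Function.update 1 i (-1)) 0 0 (Function.update 1 i (-1)⁻¹) := by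
    simp [coe_lv, dG, bd, Units.inv_mk]
  rw [Submonoid.coe_mul, hd, coe_wS, bd_mul]
  refine bd_ext fun k => ?_
  rcases eq_or_ne k i with rfl | h
  · simp [ind]
  · simp [ind, h]

theorem exists_normal_form (B : Matrix (Fin n) (Fin n) F) :
    ∃ (L R : GL (Fin n) F) (s : Finset (Fin n)), L.1 * B * R.1 = Matrix.diagonal (ind s) := by
  obtain ⟨M, M', D, hB⟩ := Matrix.Pivot.exists_list_transvec_mul_diagonal_mul_list_transvec B
  have hM : (M.map Matrix.TransvectionStruct.toMatrix).prod.det ≠ 0 := by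
    rw [Matrix.TransvectionStruct.det_toMatrix_prod]; exact one_ne_zero
  have hM' : (M'.map Matrix.TransvectionStruct.toMatrix).prod.det ≠ 0 := by
    rw [Matrix.TransvectionStruct.det_toMatrix_prod]; exact one_ne_zero
  let P := Matrix.GeneralLinearGroup.mkOfDetNeZero _ hM
  let P' := Matrix.GeneralLinearGroup.mkOfDetNeZero _ hM'
  let E : GL (Fin n) F :=
    ⟨Matrix.diagonal fun k => if D k = 0 then 1 else (D k)⁻¹, Matrix.diagonal fun k => if D k = 0 then 1 else D k,
      by
        rw [Matrix.diagonal_mul_diagonal, ← Matrix.diagonal_one]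
        congr 1
        funext k
        split_ifs with h <;> simp [h],
      by
        rw [Matrix.diagonal_mul_diagonal, ← Matrix.diagonal_one]
        congr 1
        funext k
        split_ifs with h <;> simp [h]⟩
  refine ⟨E * P⁻¹, P'⁻¹, Finset.univ.filter fun k => D k ≠ 0, ?_⟩
  have hB' : B = P.1 * Matrix.diagonal D * P'.1 := hB
  have e : (E * P⁻¹).1 * B * (P'⁻¹).1 = E.1 * Matrix.diagonal D := by
    rw [hB', Units.val_mul]
    calc E.1 * (P⁻¹).1 * (P.1 * Matrix.diagonal D * P'.1) * (P'⁻¹).1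
        = E.1 * ((P⁻¹).1 * P.1) * Matrix.diagonal D * (P'.1 * (P'⁻¹).1) := by simp only [Matrix.mul_assoc]
      _ = E.1 * Matrix.diagonal D := by rw [P.inv_mul, P'.mul_inv, Matrix.mul_one, Matrix.mul_one]
  rw [e, Matrix.diagonal_mul_diagonal]
  congr 1
  funext k
  by_cases h : D k = 0 <;> simp [ind, h]

theorem exists_tri (g : SpG n F)
    (h : (g : Matrix (Fin n ⊕ Fin n) (Fin n ⊕ Fin n) F).toBlocks₁₂ = 0) :
    ∃ (A : GL (Fin n) F) (X : SymM n F), g = lv A * uS X := by
  obtain ⟨M, hM⟩ := g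
  obtain ⟨A, B, C, D, rfl⟩ : ∃ A B C D, M = Matrix.fromBlocks A B C D :=
    ⟨_, _, _, _, (Matrix.fromBlocks_toBlocks M).symm⟩
  simp only [Matrix.toBlocks_fromBlocks₁₂] at h
  subst h
  have hm := hM
  rw [SymplecticGroup.mem_iff, Matrix.J, Matrix.fromBlocks_transpose, Matrix.fromBlocks_multiply,
    Matrix.fromBlocks_multiply, Matrix.fromBlocks_inj] at hm
  obtain ⟨-, h12, -, h22⟩ := hm
  simp at h12 h22
  have hAD : A * Dᵀ = 1 := h12
  have hDA : Dᵀ * A = 1 := mul_eq_one_comm.1 hAD
  let U : GL (Fin n) F := ⟨A, Dᵀ, hAD, hDA⟩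
  have hsym : (C * Dᵀ).IsSymm := by
    rw [Matrix.IsSymm, Matrix.transpose_mul, Matrix.transpose_transpose]
    linear_combination (norm := abel) h22
  let X0 : SymM n F := ⟨C * Dᵀ, hsym⟩
  refine ⟨U, congT U X0, ?_⟩
  rw [← uS_mul_lv]
  apply Subtype.ext
  show Matrix.fromBlocks A 0 C D = _
  simp only [Submonoid.coe_mul, coe_uS, coe_lv, Matrix.fromBlocks_multiply, X0, U, Units.inv_mk,
    Matrix.transpose_transpose, Matrix.mul_assoc, hDA]
  simp

theorem exists_decomp (g : SpG n F) : ∃ (A₁ A₂ : GL (Fin n) F) (X₁ X₂ : SymM n F) (s : Finset (Fin n)),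
    g = lv A₁ * uS X₁ * wS s * uS X₂ * lv A₂ := by
  obtain ⟨L, R, s, hs⟩ := exists_normal_form ((g : Matrix (Fin n ⊕ Fin n) (Fin n ⊕ Fin n) F).toBlocks₁₂)
  let R' : GL (Fin n) F := ⟨((R⁻¹).1)ᵀ, R.1ᵀ, by rw [← Matrix.transpose_mul, R.mul_inv, Matrix.transpose_one],
    by rw [← Matrix.transpose_mul, R.inv_mul, Matrix.transpose_one]⟩
  set g1 : SpG n F := lv L * g * lv R' with hg1
  obtain ⟨A, B, C, D, hMg⟩ : ∃ A B C D, (g1 : Matrix (Fin n ⊕ Fin n) (Fin n ⊕ Fin n) F) =
      Matrix.fromBlocks A B C D := ⟨_, _, _, _, (Matrix.fromBlocks_toBlocks _).symm⟩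
  have hB : B = Matrix.diagonal (ind s) := by
    rw [← hs, ← Matrix.toBlocks_fromBlocks₁₂ A B C D, ← hMg, hg1]
    simp only [Submonoid.coe_mul, coe_lv]
    rw [← Matrix.fromBlocks_toBlocks (g : Matrix (Fin n ⊕ Fin n) (Fin n ⊕ Fin n) F)]
    simp [Matrix.fromBlocks_multiply, R', Units.inv_mk]
  have hAB : Matrix.diagonal (ind s) * Aᵀ = A * Matrix.diagonal (ind s) := by
    have hm := g1.2
    rw [hMg, hB, SymplecticGroup.mem_iff, Matrix.J, Matrix.fromBlocks_transpose, Matrix.fromBlocks_multiply,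
      Matrix.fromBlocks_multiply, Matrix.fromBlocks_inj] at hm
    have h11 := hm.1
    simp at h11
    linear_combination (norm := abel) h11
  have hDD : Matrix.diagonal (ind s : Fin n → F) * Matrix.diagonal (ind s) = Matrix.diagonal (ind s) := by
    rw [Matrix.diagonal_mul_diagonal]
    exact congrArg Matrix.diagonal (ind_mul_self s)
  let X : SymM n F := ⟨-(A * Matrix.diagonal (ind s)), by
    show Matrix.IsSymm _
    rw [Matrix.IsSymm, Matrix.transpose_neg, Matrix.transpose_mul, Matrix.diagonal_transpose, hAB]⟩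
  have hDX : Matrix.diagonal (ind s) * X.1 = -(A * Matrix.diagonal (ind s)) := by
    show Matrix.diagonal (ind s) * -(A * Matrix.diagonal (ind s)) = _
    rw [Matrix.mul_neg, ← hAB, ← Matrix.mul_assoc, hDD]
  have hw3 : (wS s : SpG n F) * (wS s * wS s * wS s) = 1 := by
    apply Subtype.ext
    simp only [Submonoid.coe_mul, coe_wS, bd_mul, Submonoid.coe_one, ← bd_one]
    refine bd_ext fun k => ?_
    by_cases hk : k ∈ s <;> simp [ind, hk]
  have hw3' : (wS s * wS s * wS s : SpG n F) * wS s = 1 := mul_eq_one_comm.1 hw3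
  have hw3c : ((wS s * wS s * wS s : SpG n F) : Matrix (Fin n ⊕ Fin n) (Fin n ⊕ Fin n) F) =
      bd (1 - ind s) (-ind s) (ind s) (1 - ind s) := by
    simp only [Submonoid.coe_mul, coe_wS, bd_mul]
    refine bd_ext fun k => ?_
    by_cases hk : k ∈ s <;> simp [ind, hk]
  obtain ⟨U, Y, hUY⟩ := exists_tri (g1 * uS X * (wS s * wS s * wS s)) (by
    rw [Submonoid.coe_mul, hw3c, Submonoid.coe_mul, hMg, hB]
    simp only [coe_uS, bd, Matrix.fromBlocks_multiply, Matrix.toBlocks_fromBlocks₁₂]
    rw [Matrix.mul_one, Matrix.mul_zero, zero_add, Matrix.mul_one, hDX,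
      show Matrix.diagonal (-(ind s : Fin n → F)) = -Matrix.diagonal (ind s) by rw [Matrix.diagonal_neg]; rfl,
      show Matrix.diagonal (1 - (ind s : Fin n → F)) = 1 - Matrix.diagonal (ind s) by
        rw [← Matrix.diagonal_one, Matrix.diagonal_sub]; rfl,
      Matrix.mul_sub, Matrix.mul_one, hDD, Matrix.mul_neg, Matrix.add_mul, Matrix.neg_mul, Matrix.mul_assoc, hDD]
    abel)
  refine ⟨L⁻¹ * U, R'⁻¹, Y, -X, s, ?_⟩
  have hX : uS X * uS (-X) = (1 : SpG n F) := by rw [← uS_add, add_neg_cancel, uS_zero]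
  calc g = lv L⁻¹ * g1 * lv R'⁻¹ := by
        rw [hg1, map_inv, map_inv]
        group
    _ = lv L⁻¹ * ((g1 * uS X * (wS s * wS s * wS s)) * wS s * uS (-X)) * lv R'⁻¹ := by
        rw [mul_assoc (g1 * uS X), hw3', mul_one, mul_assoc g1, hX, mul_one]
    _ = _ := by rw [hUY, map_mul]; simp only [mul_assoc]

end Cfsg.Agent.WeilFour
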