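import Cfsg.Agent.WeilFour.Setup
import Cfsg.Agent.SUDeg.Eigen

/-!
The spectrum of a representation of the symplectic group on the unipotent radical of the Siegel parabolic.
-/

set_option autoImplicit false
set_option linter.unusedSectionVars false

namespace Cfsg.Agent.WeilFour

open Matrix Cfsg.Agent.SUDeg

variable {F : Type*} [Field F] [Fintype F] [DecidableEq F] {n : ℕ}
variable {V : Type*} [AddCommGroup V] [Module ℂ V]

noncomputable instance : Fintype (SymM n F) := Fintype.ofFinite _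

/-- The action of the radical. -/
noncomputable def uAct (ρ : Representation ℂ (SpG n F) V) : AddChar (SymM n F) (Module.End ℂ V) where
  toFun X := ρ (uS X)
  map_zero_eq_one' := by rw [uS_zero, map_one]
  map_add_eq_mul' X Y := by rw [uS_add, map_mul]

/-- The character `X ↦ ψ (tr (S X))`. -/
def chr (ψ : AddChar F ℂ) (S : SymM n F) : AddChar (SymM n F) ℂ where
  toFun X := ψ (S.1 * X.1).trace
  map_zero_eq_one' := by simp
  map_add_eq_mul' X Y := by simp [Matrix.mul_add, AddChar.map_add_eq_mul]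

theorem chr_apply (ψ : AddChar F ℂ) (S X : SymM n F) : chr ψ S X = ψ (S.1 * X.1).trace := rfl

/-- The eigenspace of a symmetric matrix. -/
noncomputable def E (ρ : Representation ℂ (SpG n F) V) (ψ : AddChar F ℂ) (S : SymM n F) : Submodule ℂ V :=
  eig (uAct ρ) ⊤ (chr ψ S)

/-- The projection on the eigenspace. -/
noncomputable def P (ρ : Representation ℂ (SpG n F) V) (ψ : AddChar F ℂ) (S : SymM n F) : Module.End ℂ V :=
  proj (uAct ρ) (chr ψ S)

variable {ρ : Representation ℂ (SpG n F) V} {ψ : AddChar F ℂ}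

theorem mem_E {S : SymM n F} {v : V} : v ∈ E ρ ψ S ↔ ∀ X, ρ (uS X) v = ψ (S.1 * X.1).trace • v := by
  rw [E, mem_eig]
  exact ⟨fun h => h.2, fun h => ⟨Submodule.mem_top, h⟩⟩

theorem P_mem (S : SymM n F) (v : V) : P ρ ψ S v ∈ E ρ ψ S :=
  proj_mem (C := ⊤) (fun _ _ _ => Submodule.mem_top) _ Submodule.mem_top

theorem sym_apply (S : SymM n F) (i j : Fin n) : S.1 i j = S.1 j i := (Matrix.IsSymm.apply S.2 i j).symm

theorem trace_symN (S : SymM n F) (i j : Fin n) (t : F) :
    (S.1 * (symN i j t).1).trace = 2 * t * S.1 i j := by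
  simp [symN, Matrix.mul_add, Matrix.trace_mul_single, sym_apply S j i]
  ring

theorem trace_symD (S : SymM n F) (i : Fin n) (a : F) :
    (S.1 * (symD i a).1).trace = a * S.1 i i := by
  simp [symD, Matrix.trace, Matrix.mul_diagonal, Pi.single_apply, mul_comm]

variable (h2 : (2 : F) ≠ 0) (hψ : ψ ≠ 1)
include hψ

theorem eq_of_psi {x y : F} (h : ∀ a, ψ (a * x) = ψ (a * y)) : x = y := by
  by_contra hxy
  obtain ⟨b, hb⟩ := AddChar.ne_one_iff.1 hψ
  apply hb
  have := h (b / (x - y))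
  have e : b / (x - y) * x = b / (x - y) * y + b := by
    field_simp [sub_ne_zero.2 hxy]
    ring
  rw [e, AddChar.map_add_eq_mul] at this
  exact mul_left_cancel₀ (ψ.val_isUnit _).ne_zero (this.trans (mul_one _).symm)

include h2

theorem entry_eq {S S' : SymM n F} {i j : Fin n}
    (h : ∀ t, ψ (S.1 * (symN i j t).1).trace = ψ (S'.1 * (symN i j t).1).trace) : S.1 i j = S'.1 i j :=
  eq_of_psi hψ fun a => by
    have := h (a / 2)
    rwa [trace_symN, trace_symN, mul_div_cancel₀ a h2] at this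

theorem chr_bijective : Function.Bijective (chr (n := n) ψ) := by
  have hinj : Function.Injective (chr (n := n) ψ) := fun S S' h => Subtype.ext <| Matrix.ext fun i j =>
    entry_eq h2 hψ fun t => DFunLike.congr_fun h _
  exact (Fintype.bijective_iff_injective_and_card _).2 ⟨hinj, (AddChar.card_eq).symm⟩

theorem P_of_mem {S S' : SymM n F} {v : V} (hv : v ∈ E ρ ψ S') :
    P ρ ψ S v = if S = S' then v else 0 := by
  classical
  rw [P, proj_of_mem hv]
  by_cases h : S = S'
  · simp [h]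
  · rw [if_neg h, if_neg fun e => h ((chr_bijective h2 hψ).1 e)]

theorem P_self {S : SymM n F} {v : V} (hv : v ∈ E ρ ψ S) : P ρ ψ S v = v := by
  rw [P_of_mem h2 hψ hv, if_pos rfl]

theorem sum_P (v : V) : ∑ S, P ρ ψ S v = v := by
  obtain ⟨I, hI⟩ := sum_proj (φ := uAct ρ) v
  exact (Fintype.sum_bijective _ (chr_bijective h2 hψ) (fun S => P ρ ψ S v) _ fun S => rfl).trans hI

theorem mem_of_P {v : V} {W : Submodule ℂ V} (h : ∀ S, P ρ ψ S v ∈ W) : v ∈ W := by
  rw [← sum_P (ρ := ρ) h2 hψ v]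
  exact Submodule.sum_mem _ fun S _ => h S

omit h2 hψ

theorem cong_cong (A B : GL (Fin n) F) (S : SymM n F) : cong A (cong B S) = cong (A * B) S :=
  Subtype.ext (by simp [cong, Matrix.transpose_mul, Matrix.mul_assoc])

theorem cong_one (S : SymM n F) : cong 1 S = S := Subtype.ext (by simp [cong])

theorem lv_mem {S : SymM n F} {v : V} (hv : v ∈ E ρ ψ S) (A : GL (Fin n) F) :
    ρ (lv A) v ∈ E ρ ψ (cong A S) := by
  refine mem_E.2 fun X => ?_
  rw [← Module.End.mul_apply, ← map_mul, uS_mul_lv, map_mul, Module.End.mul_apply, mem_E.1 hv, map_smul]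
  congr 2
  simp only [cong, congT, Matrix.mul_assoc]
  rw [Matrix.trace_mul_comm A.1]
  simp only [Matrix.mul_assoc]

include h2 hψ

theorem P_lv (A : GL (Fin n) F) (S : SymM n F) (v : V) :
    P ρ ψ (cong A S) (ρ (lv A) v) = ρ (lv A) (P ρ ψ S v) := by
  conv_lhs => rw [← sum_P (ρ := ρ) h2 hψ v, map_sum, map_sum]
  rw [Finset.sum_eq_single S]
  · rw [P_self h2 hψ (lv_mem (P_mem S v) A)]
  · intro S' _ hne
    rw [P_of_mem h2 hψ (lv_mem (P_mem S' v) A), if_neg]
    intro h
    apply hne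
    have := congrArg (cong A⁻¹) h
    rwa [cong_cong, cong_cong, inv_mul_cancel, cong_one, cong_one, eq_comm] at this
  · simp

theorem agree_of_comm {g : SpG n F} {X : SymM n F} (hc : g * uS X = uS X * g) {S₀ S : SymM n F} {v : V}
    (hv : v ∈ E ρ ψ S₀) (hne : P ρ ψ S (ρ g v) ≠ 0) :
    ψ (S.1 * X.1).trace = ψ (S₀.1 * X.1).trace := by
  by_contra h
  apply hne
  have e1 : ρ (uS X) (ρ g v) = ψ (S₀.1 * X.1).trace • ρ g v := by
    rw [← Module.End.mul_apply, ← map_mul, ← hc, map_mul, Module.End.mul_apply, mem_E.1 hv, map_smul]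
  have e2 : P ρ ψ S (ρ (uS X) (ρ g v)) = ρ (uS X) (P ρ ψ S (ρ g v)) := by
    conv_lhs => rw [← sum_P (ρ := ρ) h2 hψ (ρ g v), map_sum, map_sum]
    rw [Finset.sum_eq_single S]
    · rw [mem_E.1 (P_mem S _), map_smul, P_self h2 hψ (P_mem S _)]
    · intro S' _ hS'
      rw [mem_E.1 (P_mem S' _), map_smul, P_of_mem h2 hψ (P_mem S' _), if_neg hS'.symm, smul_zero]
    · simp
  rw [e1, map_smul, mem_E.1 (P_mem S _)] at e2
  exact (smul_eq_zero.1 (show (ψ (S₀.1 * X.1).trace - ψ (S.1 * X.1).trace) • P ρ ψ S (ρ g v) = 0 by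
    rw [sub_smul, e2, sub_self])).resolve_left (sub_ne_zero.2 (Ne.symm h))

omit h2 hψ

/-- The symmetric matrix `c v vᵀ`. -/
def sv (c : F) (v : Fin n → F) : SymM n F :=
  ⟨c • Matrix.vecMulVec v v, by
    show Matrix.IsSymm _
    simp [Matrix.IsSymm, Matrix.transpose_vecMulVec]⟩

theorem sv_apply (c : F) (v : Fin n → F) (i j : Fin n) : (sv c v).1 i j = c * (v i * v j) := by
  simp [sv, Matrix.vecMulVec_apply]

theorem cong_sv (A : GL (Fin n) F) (c : F) (v : Fin n → F) : cong A (sv c v) = sv c (A.1 *ᵥ v) :=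
  Subtype.ext (by simp [cong, sv, Matrix.mul_vecMulVec, Matrix.vecMulVec_mul, Matrix.vecMul_transpose])

theorem sv_smul (c b : F) (v : Fin n → F) : sv c (b • v) = sv (c * b * b) v :=
  Subtype.ext (by ext i j; simp [sv_apply]; ring)

/-- Only matrices of rank at most one occur. -/
def LowRank (ρ : Representation ℂ (SpG n F) V) (ψ : AddChar F ℂ) : Prop :=
  ∀ S : SymM n F, E ρ ψ S ≠ ⊥ → ∃ (c : F) (v : Fin n → F), S = sv c v

theorem exists_sv (hr : LowRank ρ ψ) {S : SymM n F} {v : V} (hv : v ∈ E ρ ψ S) (h0 : v ≠ 0) :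
    ∃ (c : F) (u : Fin n → F), S = sv c u :=
  hr S fun h => h0 (by rwa [h, Submodule.mem_bot] at hv)

end Cfsg.Agent.WeilFour
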