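import Cfsg.Agent.WeilFour.Block

/-!
The stabilizer in the linear group of a unit vector acts by scalars on the eigenspace of the corresponding matrix
of rank one.
-/

set_option autoImplicit false
set_option linter.unusedSectionVars false

namespace Cfsg.Agent.WeilFour

open Matrix

variable {F : Type*} [Field F] [Fintype F] [DecidableEq F] {n : ℕ}
variable {V : Type*} [AddCommGroup V] [Module ℂ V]
variable {ρ : Representation ℂ (SpG n F) V} {ψ : AddChar F ℂ}

theorem rho_inj (g : SpG n F) : Function.Injective (ρ g) :=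
  Function.LeftInverse.injective (g := ρ g⁻¹) fun v => by
    rw [← Module.End.mul_apply, ← map_mul, inv_mul_cancel, map_one, Module.End.one_apply]

theorem inv_mulVec {A : GL (Fin n) F} {v w : Fin n → F} (h : A.1 *ᵥ v = w) : (A⁻¹).1 *ᵥ w = v := by
  rw [← h, Matrix.mulVec_mulVec, A.inv_mul, Matrix.one_mulVec]

/-- The elements fixing a unit vector which act by a scalar. -/
def stabSub (ρ : Representation ℂ (SpG n F) V) (ψ : AddChar F ℂ) (j : Fin n) (c : F) : Subgroup (GL (Fin n) F) where
  carrier := {A | A.1 *ᵥ ev j = ev j ∧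
    ∃ γ : ℂ, γ ≠ 0 ∧ ∀ m ∈ E ρ ψ (sv c (ev j)), ρ (lv A) m = γ • m}
  one_mem' := ⟨Matrix.one_mulVec _, 1, one_ne_zero, fun m _ => by simp⟩
  mul_mem' := by
    rintro A B ⟨hA, a, ha, hA'⟩ ⟨hB, b, hb, hB'⟩
    refine ⟨by rw [Units.val_mul, ← Matrix.mulVec_mulVec, hB, hA], b * a, mul_ne_zero hb ha, fun m hm => ?_⟩
    rw [map_mul, map_mul, Module.End.mul_apply, hB' m hm, map_smul, hA' m hm, smul_smul]
  inv_mem' := by
    rintro A ⟨hA, a, ha, hA'⟩
    refine ⟨inv_mulVec hA, a⁻¹, inv_ne_zero ha, fun m hm => ?_⟩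
    apply rho_inj (ρ := ρ) (lv A)
    rw [map_smul, hA' m hm, smul_smul, inv_mul_cancel₀ ha, one_smul, ← Module.End.mul_apply, ← map_mul,
      ← map_mul, mul_inv_cancel, map_one, map_one, Module.End.one_apply]

theorem conj_mem {j : Fin n} {c : F} {A : GL (Fin n) F} (hA : A ∈ stabSub ρ ψ j c) (S : GL (Fin n) F)
    (hS : S.1 *ᵥ ev j = ev j) : S * A * S⁻¹ ∈ stabSub ρ ψ j c := by
  obtain ⟨hA0, a, ha, hA'⟩ := hA
  refine ⟨?_, a, ha, fun m hm => ?_⟩
  · rw [Units.val_mul, Units.val_mul, ← Matrix.mulVec_mulVec, ← Matrix.mulVec_mulVec, inv_mulVec hS, hA0, hS]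
  · have hm' : ρ (lv S⁻¹) m ∈ E ρ ψ (sv c (ev j)) := by
      have := lv_mem hm S⁻¹
      rwa [cong_sv, inv_mulVec hS] at this
    rw [map_mul, map_mul, map_mul, map_mul, Module.End.mul_apply, Module.End.mul_apply, hA' _ hm', map_smul,
      ← Module.End.mul_apply, ← map_mul, ← map_mul, mul_inv_cancel, map_one, map_one, Module.End.one_apply]

/-- Extension of a matrix on the other coordinates. -/
def embM (j : Fin n) (M : Matrix {k // k ≠ j} {k // k ≠ j} F) : Matrix (Fin n) (Fin n) F :=
  Matrix.of fun k l => if hk : k = j then (if l = j then 1 else 0) else if hl : l = j then 0 else M ⟨k, hk⟩ ⟨l, hl⟩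

theorem embM_mul (j : Fin n) (M N : Matrix {k // k ≠ j} {k // k ≠ j} F) :
    embM j M * embM j N = embM j (M * N) := by
  ext k l
  rw [Matrix.mul_apply, Fintype.sum_eq_add_sum_subtype_ne _ j]
  by_cases hk : k = j
  · subst hk
    rw [Finset.sum_eq_zero fun x _ => by simp [embM, x.2]]
    simp [embM]
  · by_cases hl : l = j
    · subst hl
      rw [Finset.sum_eq_zero fun x _ => by simp [embM, x.2]]
      simp [embM, hk]
    · rw [show (embM j M k j * embM j N j l) = 0 by simp [embM, hk], zero_add]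
      simp only [embM, Matrix.of_apply, hk, hl, dif_neg, not_false_iff, Matrix.mul_apply]
      exact Finset.sum_congr rfl fun x _ => by simp [x.2]

variable (h2 : (2 : F) ≠ 0) (hψ : ψ ≠ 1)
include h2 hψ

theorem dG_mem (hr : LowRank ρ ψ) {i j : Fin n} (hij : i ≠ j) {c : F} (hc : c ≠ 0) (l : F) (hl : l ≠ 0) :
    dG i l hl ∈ stabSub ρ ψ j c := by
  obtain ⟨γ, hγ⟩ := (block h2 hψ hr hij hc).2 l hl
  refine ⟨dG_mulVec i l hl _ (by simp [hij]), ?_⟩
  by_cases h0 : ∀ m ∈ E ρ ψ (sv c (ev j)), m = 0
  · exact ⟨1, one_ne_zero, fun m hm => by simp [h0 m hm]⟩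
  push Not at h0
  obtain ⟨m, hm, hne⟩ := h0
  exact ⟨γ, fun h => hne (rho_inj (ρ := ρ) (lv (dG i l hl)) (by rw [hγ m hm, h, zero_smul, map_zero])), hγ⟩

theorem transvec_mem (hr : LowRank ρ ψ) {a b j : Fin n} (hab : a ≠ b) (hbj : b ≠ j) {c : F} (hc : c ≠ 0) (t : F) :
    hG a b hab t ∈ stabSub ρ ψ j c := by
  have hfix : ∀ x : F, (hG a b hab x).1 *ᵥ ev j = ev j := fun x => by
    funext k
    simp [ev, coe_hG, Matrix.transvection, Matrix.one_apply, Matrix.single_apply, hbj, Pi.single_apply]
  obtain ⟨i, hij, hi⟩ : ∃ i, i ≠ j ∧ ((i = a ∧ i ≠ b) ∨ (i = b ∧ i ≠ a)) := by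
    by_cases haj : a = j
    · exact ⟨b, hbj, Or.inr ⟨rfl, hab.symm⟩⟩
    · exact ⟨a, haj, Or.inl ⟨rfl, hab⟩⟩
  set d : GL (Fin n) F := dG i (-1) (neg_ne_zero.2 one_ne_zero) with hd
  have hdm : d ∈ stabSub ρ ψ j c := dG_mem h2 hψ hr hij hc _ _
  have hflip : ∀ x : F, d * (hG a b hab x)⁻¹ = hG a b hab x * d := fun x => by
    have hD : Function.update (1 : Fin n → F) i (-1) a + Function.update (1 : Fin n → F) i (-1) b = 0 := by
      rcases hi with ⟨h1, h3⟩ | ⟨h1, h3⟩
      · rw [h1, Function.update_self, Function.update_of_ne hab.symm]; simp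
      · rw [h1, Function.update_self, Function.update_of_ne hab]; simp
    have hs1 : ∀ (D : Fin n → F) (y : F), Matrix.diagonal D * Matrix.single a b y = Matrix.single a b (D a * y) := by
      intro D y
      ext k l
      simp only [Matrix.diagonal_mul, Matrix.single_apply]
      grind
    have hs2 : ∀ (D : Fin n → F) (y : F), Matrix.single a b y * Matrix.diagonal D = Matrix.single a b (y * D b) := by
      intro D y
      ext k l
      simp only [Matrix.mul_diagonal, Matrix.single_apply]
      grind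
    apply Units.ext
    simp only [Units.val_mul, coe_inv_hG, coe_hG, hd, dG, Matrix.transvection, Matrix.mul_add, Matrix.add_mul,
      Matrix.one_mul, Matrix.mul_one, hs1, hs2]
    congr 2
    linear_combination (-x) * hD
  have h := mul_mem (conj_mem hdm (hG a b hab (t / 2)) (hfix _)) (inv_mem hdm)
  have hadd : ∀ x y : F, hG a b hab x * hG a b hab y = hG a b hab (x + y) := fun x y =>
    Units.ext (Matrix.transvection_mul_transvection_same a b hab x y)
  rwa [mul_assoc (hG a b hab (t / 2)), hflip, ← mul_assoc, hadd, mul_assoc, mul_inv_cancel, mul_one,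
    show t / 2 + t / 2 = t by field_simp; ring] at h

theorem stab_scalar (hr : LowRank ρ ψ) {j : Fin n} {c : F} (hc : c ≠ 0) (A : GL (Fin n) F)
    (hA : A.1 *ᵥ ev j = ev j) : ∃ γ : ℂ, ∀ m ∈ E ρ ψ (sv c (ev j)), ρ (lv A) m = γ • m := by
  suffices h : A ∈ stabSub ρ ψ j c by
    obtain ⟨-, γ, -, hγ⟩ := h
    exact ⟨γ, hγ⟩
  let H := stabSub ρ ψ j c
  have hdiag : ∀ (s : Finset (Fin n)) (D : Fin n → F), (∀ k, D k ≠ 0) → j ∉ s →
      ∃ B ∈ H, B.1 = Matrix.diagonal (fun k => if k ∈ s then D k else 1) := by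
    intro s D hD
    induction s using Finset.induction_on with
    | empty => exact fun _ => ⟨1, one_mem _, by simp⟩
    | @insert k s hks ih =>
      intro hj
      rw [Finset.mem_insert, not_or] at hj
      obtain ⟨B, hB, hBe⟩ := ih hj.2
      refine ⟨dG k (D k) (hD k) * B, mul_mem (dG_mem h2 hψ hr (Ne.symm hj.1) hc _ _) hB, ?_⟩
      rw [Units.val_mul, hBe]
      simp only [dG, Matrix.diagonal_mul_diagonal]
      congr 1
      funext x
      rcases eq_or_ne x k with rfl | hx
      · simp [hks]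
      · simp [hx]
  have hrow : ∀ (s : Finset (Fin n)) (r : Fin n → F), j ∉ s →
      ∃ B ∈ H, B.1 = 1 + Matrix.vecMulVec (ev j) (∑ k ∈ s, Pi.single k (r k)) := by
    intro s r
    induction s using Finset.induction_on with
    | empty => exact fun _ => ⟨1, one_mem _, by simp⟩
    | @insert k s hks ih =>
      intro hj
      rw [Finset.mem_insert, not_or] at hj
      obtain ⟨B, hB, hBe⟩ := ih hj.2
      refine ⟨hG j k hj.1 (r k) * B, mul_mem (transvec_mem h2 hψ hr hj.1 (Ne.symm hj.1) hc _) hB, ?_⟩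
      rw [Units.val_mul, hBe, coe_hG, Finset.sum_insert hks, Matrix.vecMulVec_add]
      have hs : Matrix.single j k (r k) = Matrix.vecMulVec (ev j) (Pi.single k (r k)) := by
        ext a b
        simp [Matrix.vecMulVec_apply, Matrix.single_apply, Pi.single_apply]
        grind
      rw [Matrix.transvection, Matrix.add_mul, Matrix.one_mul, Matrix.mul_add, Matrix.mul_one, hs,
        Matrix.vecMulVec_mul_vecMulVec, show (Pi.single k (r k) : Fin n → F) ⬝ᵥ ev j = 0 by
          simp [Ne.symm hj.1]]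
      simp
      abel
  have hind : ∀ M : Matrix {k // k ≠ j} {k // k ≠ j} F, M.det ≠ 0 → ∃ B ∈ H, B.1 = embM j M := by
    intro M hM
    refine Matrix.diagonal_transvection_induction_of_det_ne_zero (fun M => ∃ B ∈ H, B.1 = embM j M) M hM
      (fun D hD => ?_) (fun t => ?_) ?_
    · have hD' : ∀ k, D k ≠ 0 := fun k => by
        rw [Matrix.det_diagonal] at hD
        exact fun h => hD (Finset.prod_eq_zero (Finset.mem_univ k) h)
      obtain ⟨B, hB, hBe⟩ := hdiag (Finset.univ.erase j) (fun k => if h : k = j then 1 else D ⟨k, h⟩)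
        (fun k => by split_ifs <;> [exact one_ne_zero; exact hD' _]) (by simp)
      refine ⟨B, hB, ?_⟩
      rw [hBe]
      ext k l
      simp only [embM, Matrix.of_apply, Matrix.diagonal_apply, Finset.mem_erase, Finset.mem_univ, and_true]
      by_cases hk : k = j
      · subst hk; simp [eq_comm]
      · by_cases hl : l = j
        · subst hl; simp [hk]
        · simp [hk, hl]
    · obtain ⟨a, b, hab, x⟩ := t
      refine ⟨hG a.1 b.1 (fun h => hab (Subtype.ext h)) x, transvec_mem h2 hψ hr _ b.2 hc x, ?_⟩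
      ext k l
      simp only [coe_hG, embM, Matrix.TransvectionStruct.toMatrix_mk, Matrix.of_apply, Matrix.transvection,
        Matrix.add_apply, Matrix.one_apply, Matrix.single_apply]
      by_cases hk : k = j
      · subst hk; simp [a.2, eq_comm]
      · by_cases hl : l = j
        · subst hl; simp [hk, b.2]
        · simp [hk, hl, Subtype.ext_iff]
    · rintro M N - - ⟨B, hB, hBe⟩ ⟨C, hC, hCe⟩
      exact ⟨B * C, mul_mem hB hC, by rw [Units.val_mul, hBe, hCe, embM_mul]⟩
  have hcol : ∀ k, A.1 k j = if k = j then 1 else 0 := fun k => by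
    have := congrFun hA k
    simpa [ev, Pi.single_apply] using this
  obtain ⟨S, hS, hSe⟩ := hrow (Finset.univ.erase j) (fun k => A.1 j k) (by simp)
  let M : Matrix {k // k ≠ j} {k // k ≠ j} F := A.1.submatrix Subtype.val Subtype.val
  have hAM : A.1 = embM j M * S.1 := by
    rw [hSe, Matrix.mul_add, Matrix.mul_one, Matrix.mul_vecMulVec]
    ext k l
    have hcj : (embM j M *ᵥ ev j) k = if k = j then 1 else 0 := by
      simp [embM]
    rw [Matrix.add_apply, Matrix.vecMulVec_apply, hcj, Finset.sum_apply, Finset.sum_pi_single]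
    by_cases hk : k = j
    · subst hk
      by_cases hl : l = k
      · subst hl; simp [embM, hcol]
      · simp [embM, hl]
    · by_cases hl : l = j
      · subst hl; simp [embM, hk, hcol]
      · simp [embM, hk, hl, M]
  have hdet : M.det ≠ 0 := by
    intro h0
    obtain ⟨x, hx, hMx⟩ := Matrix.exists_mulVec_eq_zero_iff.2 h0
    let y : Fin n → F := fun k => if h : k = j then 0 else x ⟨k, h⟩
    have hy : embM j M *ᵥ y = 0 := by
      funext k
      rw [Matrix.mulVec, dotProduct, Fintype.sum_eq_add_sum_subtype_ne _ j]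
      by_cases hk : k = j
      · subst hk
        rw [Finset.sum_eq_zero fun x _ => by simp [embM, x.2]]
        simp [embM, y]
      · have := congrFun hMx ⟨k, hk⟩
        simp [Matrix.mulVec, dotProduct] at this
        simp [embM, y, hk]
        convert this using 2 with x
        simp [x.2]
    have hu : IsUnit (embM j M) := by
      have : embM j M = (A * S⁻¹).1 := by
        rw [Units.val_mul, hAM, Matrix.mul_assoc, S.mul_inv, Matrix.mul_one]
      rw [this]
      exact Units.isUnit _
    have := Matrix.mulVec_injective_iff_isUnit.2 hu (hy.trans (Matrix.mulVec_zero _).symm)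
    exact hx (funext fun k => by simpa [y, k.2] using congrFun this k.1)
  obtain ⟨B, hB, hBe⟩ := hind M hdet
  have : A = B * S := Units.ext (by rw [Units.val_mul, hBe, ← hAM])
  rw [this]
  exact mul_mem hB hS

end Cfsg.Agent.WeilFour
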