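import Cfsg.Agent.WeilFour.Core
import Cfsg.Agent.Char.Basic

/-!
Irreducible representations of rank one with the same class and the same central sign have the same character.
-/

set_option autoImplicit false
set_option linter.unusedSectionVars false

namespace Cfsg.Agent.WeilFour

open Matrix

variable {F : Type*} [Field F] [Fintype F] [DecidableEq F] {n : ℕ}
variable {V : Type*} [AddCommGroup V] [Module ℂ V] {W : Type*} [AddCommGroup W] [Module ℂ W]
variable {ρ : Representation ℂ (SpG n F) V} {σ : Representation ℂ (SpG n F) W} {ψ : AddChar F ℂ}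

theorem mem_E_prod {S : SymM n F} {x : V × W} :
    x ∈ E (ρ.prod σ) ψ S ↔ x.1 ∈ E ρ ψ S ∧ x.2 ∈ E σ ψ S := by
  rw [mem_E, mem_E, mem_E, ← forall_and]
  refine forall_congr' fun X => ?_
  obtain ⟨a, b⟩ := x
  simp [Representation.prod_apply_apply, Prod.ext_iff]

variable (h2 : (2 : F) ≠ 0) (hψ : ψ ≠ 1)
include h2 hψ

theorem unique_character [Nontrivial (Fin n)] (hρ : ρ.IsIrreducible) (hσ : σ.IsIrreducible)
    (hrρ : LowRank ρ ψ) (hrσ : LowRank σ ψ) {ε : ℂ} (hzρ : ∀ v, ρ (lv (-1)) v = ε • v)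
    (hzσ : ∀ v, σ (lv (-1)) v = ε • v) {c₀ : F} (hc₀ : c₀ ≠ 0) {j0 : Fin n} {a : V} {b : W}
    (ha : a ∈ E ρ ψ (sv c₀ (ev j0))) (ha0 : a ≠ 0) (hb : b ∈ E σ ψ (sv c₀ (ev j0))) (hb0 : b ≠ 0) :
    ρ.character = σ.character := by
  obtain ⟨-, hUρ⟩ := Char.isIrreducible_iff.1 hρ
  obtain ⟨-, hUσ⟩ := Char.isIrreducible_iff.1 hσ
  set τ := ρ.prod σ with hτ
  have hrτ : LowRank τ ψ := fun S hS => by
    obtain ⟨x, hx, hx0⟩ := Submodule.exists_mem_ne_zero_of_ne_bot hS
    rw [hτ, mem_E_prod] at hx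
    by_cases h1 : x.1 = 0
    · exact exists_sv hrσ hx.2 fun h => hx0 (Prod.ext h1 h)
    · exact exists_sv hrρ hx.1 h1
  have hzτ : ∀ v, τ (lv (-1)) v = ε • v := fun v => by
    obtain ⟨x, y⟩ := v
    simp [hτ, Representation.prod_apply_apply, hzρ, hzσ]
  set φ : V × W := (a, b) with hφd
  have hφ : φ ∈ E τ ψ (sv c₀ (ev j0)) := mem_E_prod.2 ⟨ha, hb⟩
  set U : Submodule ℂ (V × W) := Submodule.span ℂ (Set.range fun g => τ g φ) with hUd
  have hU : ∀ g, ∀ x ∈ U, τ g x ∈ U := by
    intro g x hx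
    induction hx using Submodule.span_induction with
    | mem y hy =>
      obtain ⟨k, rfl⟩ := hy
      rw [← Module.End.mul_apply, ← map_mul]
      exact Submodule.subset_span ⟨g * k, rfl⟩
    | zero => simp
    | add y z _ _ h h' => rw [map_add]; exact add_mem h h'
    | smul c y _ h => rw [map_smul]; exact Submodule.smul_mem _ c h
  have hφU : φ ∈ U := Submodule.subset_span ⟨1, by simp⟩
  have hP : ∀ x ∈ U, P τ ψ (sv c₀ (ev j0)) x ∈ Submodule.span ℂ ({φ} : Set (V × W)) := by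
    intro x hx
    induction hx using Submodule.span_induction with
    | mem y hy =>
      obtain ⟨k, rfl⟩ := hy
      exact core h2 hψ hrτ hc₀ hφ hzτ k
    | zero => simp
    | add y z _ _ h h' => rw [map_add]; exact add_mem h h'
    | smul c y _ h => rw [map_smul]; exact Submodule.smul_mem _ c h
  have hker : ∀ x ∈ U, x ∈ E τ ψ (sv c₀ (ev j0)) → x ∈ Submodule.span ℂ ({φ} : Set (V × W)) := by
    intro x hx hxE
    have := hP x hx
    rwa [P_self h2 hψ hxE] at this
  have hK1 : ∀ v, (v, (0 : W)) ∈ U → v = 0 := by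
    have h := hUρ (U.comap (LinearMap.inl ℂ V W)) (fun g v hv => by
      have := hU g _ hv
      simpa [hτ, Representation.prod_apply_apply] using this)
    rcases h with h | h
    · intro v hv
      have hv' : v ∈ U.comap (LinearMap.inl ℂ V W) := hv
      rwa [h, Submodule.mem_bot] at hv'
    · exfalso
      have hm : a ∈ U.comap (LinearMap.inl ℂ V W) := h ▸ Submodule.mem_top
      obtain ⟨k, hk⟩ := Submodule.mem_span_singleton.1
        (hker (a, 0) hm (mem_E_prod.2 ⟨ha, zero_mem _⟩))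
      simp [hφd, Prod.ext_iff, hb0] at hk
      obtain ⟨hk, rfl⟩ := hk
      simp at hk
      exact ha0 hk.symm
  have hK2 : ∀ w, ((0 : V), w) ∈ U → w = 0 := by
    have h := hUσ (U.comap (LinearMap.inr ℂ V W)) (fun g v hv => by
      have := hU g _ hv
      simpa [hτ, Representation.prod_apply_apply] using this)
    rcases h with h | h
    · intro v hv
      have hv' : v ∈ U.comap (LinearMap.inr ℂ V W) := hv
      rwa [h, Submodule.mem_bot] at hv'
    · exfalso
      have hm : b ∈ U.comap (LinearMap.inr ℂ V W) := h ▸ Submodule.mem_top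
      obtain ⟨k, hk⟩ := Submodule.mem_span_singleton.1
        (hker (0, b) hm (mem_E_prod.2 ⟨zero_mem _, hb⟩))
      simp [hφd, Prod.ext_iff, ha0] at hk
      obtain ⟨rfl, hk⟩ := hk
      simp at hk
      exact hb0 hk.symm
  let f : U →ₗ[ℂ] V := (LinearMap.fst ℂ V W).comp U.subtype
  let g : U →ₗ[ℂ] W := (LinearMap.snd ℂ V W).comp U.subtype
  have hf : Function.Bijective f := by
    refine ⟨(injective_iff_map_eq_zero f).2 ?_, ?_⟩
    · rintro ⟨⟨x, y⟩, hxy⟩ hx
      change x = 0 at hx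
      subst hx
      exact Subtype.ext (Prod.ext rfl (hK2 y hxy))
    · rcases hUρ (U.map (LinearMap.fst ℂ V W)) (by
        rintro k _ ⟨x, hx, rfl⟩
        exact ⟨τ k x, hU k x hx, rfl⟩) with h | h
      · exfalso
        have : a ∈ U.map (LinearMap.fst ℂ V W) := ⟨φ, hφU, rfl⟩
        rw [h, Submodule.mem_bot] at this
        exact ha0 this
      · intro v
        obtain ⟨x, hx, rfl⟩ := (h ▸ Submodule.mem_top : v ∈ U.map (LinearMap.fst ℂ V W))
        exact ⟨⟨x, hx⟩, rfl⟩
  have hg : Function.Bijective g := by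
    refine ⟨(injective_iff_map_eq_zero g).2 ?_, ?_⟩
    · rintro ⟨⟨x, y⟩, hxy⟩ hy
      change y = 0 at hy
      subst hy
      exact Subtype.ext (Prod.ext (hK1 x hxy) rfl)
    · rcases hUσ (U.map (LinearMap.snd ℂ V W)) (by
        rintro k _ ⟨x, hx, rfl⟩
        exact ⟨τ k x, hU k x hx, rfl⟩) with h | h
      · exfalso
        have : b ∈ U.map (LinearMap.snd ℂ V W) := ⟨φ, hφU, rfl⟩
        rw [h, Submodule.mem_bot] at this
        exact hb0 this
      · intro v
        obtain ⟨x, hx, rfl⟩ := (h ▸ Submodule.mem_top : v ∈ U.map (LinearMap.snd ℂ V W))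
        exact ⟨⟨x, hx⟩, rfl⟩
  let ef := LinearEquiv.ofBijective f hf
  let eg := LinearEquiv.ofBijective g hg
  let e := ef.symm.trans eg
  funext k
  show LinearMap.trace ℂ V (ρ k) = LinearMap.trace ℂ W (σ k)
  rw [← LinearMap.trace_conj' (ρ k) e]
  congr 1
  refine LinearMap.ext fun w => ?_
  obtain ⟨⟨⟨x, y⟩, hxy⟩, rfl⟩ := eg.surjective w
  rw [LinearEquiv.conj_apply_apply, show e.symm (eg ⟨(x, y), hxy⟩) = x by simp [e, ef, f]]
  have : ρ k x = ef ⟨τ k (x, y), hU k _ hxy⟩ := rfl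
  rw [this]
  show eg (ef.symm _) = _
  rw [LinearEquiv.symm_apply_apply]
  rfl

end Cfsg.Agent.WeilFour
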